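import Cfsg.Agent.Lib.KnownB.PrimeGraphTwo
import Cfsg.Agent.Lib.KnownA.Unipotent

/-!
Isometries as matrices, decomposed into a part without eigenvalue one and a unipotent part.
-/

set_option autoImplicit false
set_option linter.unusedSectionVars false

namespace CfsgLib.KnownB.O9Spec

open Polynomial Matrix

universe u

variable {F : Type u} [Field F]

section General

variable {ι : Type*} [Fintype ι] [DecidableEq ι]

/-- An isometry of a nondegenerate symmetric matrix. -/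
def IsIso (S A : Matrix ι ι F) : Prop := Sᵀ = S ∧ IsUnit S ∧ Aᵀ * S * A = S

theorem IsIso.one {S : Matrix ι ι F} (h : Sᵀ = S) (h' : IsUnit S) : IsIso S 1 :=
  ⟨h, h', by rw [transpose_one, one_mul, mul_one]⟩

theorem IsIso.det_ne {S A : Matrix ι ι F} (h : IsIso S A) : S.det ≠ 0 :=
  ((Matrix.isUnit_iff_isUnit_det S).1 h.2.1).ne_zero

theorem IsIso.det_mul_self {S A : Matrix ι ι F} (h : IsIso S A) : A.det * A.det = 1 := by
  have h1 := congrArg Matrix.det h.2.2
  rw [det_mul, det_mul, det_transpose] at h1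
  refine mul_left_cancel₀ h.det_ne ?_
  linear_combination h1

theorem IsIso.isUnit {S A : Matrix ι ι F} (h : IsIso S A) : IsUnit A :=
  (Matrix.isUnit_iff_isUnit_det A).2 (isUnit_iff_ne_zero.2 (left_ne_zero_of_mul_eq_one h.det_mul_self))

theorem IsIso.mul {S A B : Matrix ι ι F} (h : IsIso S A) (h' : IsIso S B) : IsIso S (A * B) := by
  refine ⟨h.1, h.2.1, ?_⟩
  rw [transpose_mul, show Bᵀ * Aᵀ * S * (A * B) = Bᵀ * (Aᵀ * S * A) * B by simp only [Matrix.mul_assoc],
    h.2.2, h'.2.2]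

theorem IsIso.pow {S A : Matrix ι ι F} (h : IsIso S A) : ∀ k : ℕ, IsIso S (A ^ k)
  | 0 => by rw [pow_zero]; exact IsIso.one h.1 h.2.1
  | k + 1 => by rw [pow_succ]; exact (h.pow k).mul h

theorem IsIso.isOfFinOrder [Finite F] {S A : Matrix ι ι F} (h : IsIso S A) : IsOfFinOrder A := by
  obtain ⟨u, hu⟩ := h.isUnit
  rw [← hu]
  exact (Units.coeHom (Matrix ι ι F)).isOfFinOrder (isOfFinOrder_of_finite u)

/-- The adjoint of `A - 1`. -/
theorem IsIso.mul_sub_pow {S A : Matrix ι ι F} (h : IsIso S A) :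
    ∀ k : ℕ, S * (A - 1) ^ k = (-1 : F) ^ k • (((A - 1) ^ k)ᵀ * (S * A ^ k))
  | 0 => by simp
  | k + 1 => by
    have h1 : S * (A - 1) = (-1 : F) • ((A - 1)ᵀ * (S * A)) := by
      rw [transpose_sub, transpose_one, sub_mul, one_mul, mul_sub, mul_one, ← Matrix.mul_assoc, h.2.2,
        neg_one_smul, neg_sub]
    have hc : Commute (A ^ k) (A - 1) := ((Commute.refl A).pow_left k).sub_right (Commute.one_right _)
    rw [pow_succ (A - 1), ← Matrix.mul_assoc, h.mul_sub_pow k, Matrix.smul_mul, Matrix.mul_assoc,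
      Matrix.mul_assoc, hc.eq, ← Matrix.mul_assoc S, h1, Matrix.smul_mul, Matrix.mul_smul, smul_smul,
      ← pow_succ, transpose_mul, pow_succ' A k]
    congr 1
    rw [← transpose_mul ((A - 1) ^ k) (A - 1), ← pow_succ (A - 1), pow_succ' (A - 1) k, transpose_mul]
    simp only [Matrix.mul_assoc]

theorem sub_one_pow_char (p : ℕ) [Fact p.Prime] [CharP F p] (U : Matrix ι ι F) (b : ℕ) :
    (U - 1) ^ p ^ b = U ^ p ^ b - 1 := by
  have h : ((X : F[X]) - 1) ^ p ^ b = X ^ p ^ b - 1 := by rw [sub_pow_char_pow, one_pow]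
  simpa using congrArg (aeval U) h

theorem pow_eq_one_iff_nil (p : ℕ) [Fact p.Prime] [CharP F p] (U : Matrix ι ι F) (b : ℕ) :
    U ^ p ^ b = 1 ↔ (U - 1) ^ p ^ b = 0 := by
  rw [sub_one_pow_char, sub_eq_zero]

theorem geom_sum_char (p : ℕ) [Fact p.Prime] [CharP F p] (U : Matrix ι ι F) (b : ℕ) :
    ∑ i ∈ Finset.range (p ^ b), U ^ i = (U - 1) ^ (p ^ b - 1) := by
  have h : ∑ i ∈ Finset.range (p ^ b), (X : F[X]) ^ i = (X - 1) ^ (p ^ b - 1) := by
    refine mul_right_cancel₀ (b := (X : F[X]) - 1) (by simpa using X_sub_C_ne_zero (1 : F)) ?_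
    rw [geom_sum_mul, ← pow_succ, Nat.sub_add_cancel (Nat.one_le_pow _ _ (Fact.out : p.Prime).pos),
      sub_pow_char_pow, one_pow]
  simpa using congrArg (aeval U) h

theorem sum_pow_period {U : Matrix ι ι F} {d : ℕ} (h : U ^ d = 1) :
    ∀ j : ℕ, ∑ i ∈ Finset.range (d * j), U ^ i = j • ∑ i ∈ Finset.range d, U ^ i
  | 0 => by simp
  | j + 1 => by
    rw [Nat.mul_succ, Finset.sum_range_add, sum_pow_period h j, succ_nsmul]
    congr 1
    refine Finset.sum_congr rfl fun i _ => ?_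
    rw [pow_add, pow_mul, h, one_pow, one_mul]

theorem sum_pow_eq_zero {A : Matrix ι ι F} (hA : (1 - A).det ≠ 0) {k : ℕ} (hk : A ^ k = 1) :
    ∑ i ∈ Finset.range k, A ^ i = 0 := by
  refine ((Matrix.isUnit_iff_isUnit_det _).2 (isUnit_iff_ne_zero.2 hA)).mul_left_cancel ?_
  rw [mul_neg_geom_sum, hk, sub_self, mul_zero]

end General

theorem lcm_prime_pow_succ {p : ℕ} (hp : p.Prime) {x b : ℕ} (hx : x ≠ 0) (h : ¬ p ^ (b + 1) ∣ x) :
    Nat.lcm x (p ^ (b + 1)) = p * Nat.lcm x (p ^ b) := by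
  have hg : Nat.gcd x (p ^ (b + 1)) = Nat.gcd x (p ^ b) := by
    obtain ⟨j, hj, e⟩ := (Nat.dvd_prime_pow hp).1 (Nat.gcd_dvd_right x (p ^ (b + 1)))
    have hjb : j ≤ b := by
      by_contra hlt
      refine h ?_
      have : j = b + 1 := by omega
      rw [← this, ← e]
      exact Nat.gcd_dvd_left _ _
    refine Nat.dvd_antisymm (Nat.dvd_gcd (Nat.gcd_dvd_left _ _) (e ▸ pow_dvd_pow p hjb)) ?_
    exact Nat.gcd_dvd_gcd_of_dvd_right _ (pow_dvd_pow p b.le_succ)
  refine Nat.eq_of_mul_eq_mul_left (Nat.gcd_pos_of_pos_left (p ^ b) (Nat.pos_of_ne_zero hx)) ?_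
  conv_lhs => rw [← hg, Nat.gcd_mul_lcm]
  rw [mul_left_comm, Nat.gcd_mul_lcm]
  ring

/-- A decomposition of `M` into the diagonal blocks `B`, `U`, orthogonal for `S`. -/
structure IsDec {N a c : ℕ} (S M : Matrix (Fin N) (Fin N) F) (R : Matrix (Fin N) (Fin a) F)
    (L : Matrix (Fin a) (Fin N) F) (R' : Matrix (Fin N) (Fin c) F) (L' : Matrix (Fin c) (Fin N) F)
    (B : Matrix (Fin a) (Fin a) F) (U : Matrix (Fin c) (Fin c) F) : Prop where
  lr : L * R = 1
  lr' : L' * R' = 1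
  cross : L * R' = 0
  cross' : L' * R = 0
  sum : R * L + R' * L' = 1
  mr : M * R = R * B
  mr' : M * R' = R' * U
  orth : Rᵀ * S * R' = 0

section Dec

variable [Fintype F] {N a c : ℕ} {S M : Matrix (Fin N) (Fin N) F} {R : Matrix (Fin N) (Fin a) F}
  {L : Matrix (Fin a) (Fin N) F} {R' : Matrix (Fin N) (Fin c) F} {L' : Matrix (Fin c) (Fin N) F}
  {B : Matrix (Fin a) (Fin a) F} {U : Matrix (Fin c) (Fin c) F}

theorem IsDec.dim (h : IsDec S M R L R' L' B U) : a + c = N :=
  PrimeGraph.dim_add h.lr h.lr' h.sum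
    (by rw [Matrix.mul_assoc, ← Matrix.mul_assoc L, h.cross, Matrix.zero_mul, Matrix.mul_zero])
    (by rw [Matrix.mul_assoc, ← Matrix.mul_assoc L', h.cross', Matrix.zero_mul, Matrix.mul_zero])

theorem IsDec.pow_mr (h : IsDec S M R L R' L' B U) : ∀ k : ℕ, M ^ k * R = R * B ^ k
  | 0 => by simp
  | k + 1 => by rw [pow_succ, Matrix.mul_assoc, h.mr, ← Matrix.mul_assoc, h.pow_mr k, Matrix.mul_assoc, pow_succ]

theorem IsDec.pow_mr' (h : IsDec S M R L R' L' B U) : ∀ k : ℕ, M ^ k * R' = R' * U ^ k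
  | 0 => by simp
  | k + 1 => by rw [pow_succ, Matrix.mul_assoc, h.mr', ← Matrix.mul_assoc, h.pow_mr' k, Matrix.mul_assoc, pow_succ]

theorem IsDec.pow (h : IsDec S M R L R' L' B U) (k : ℕ) : IsDec S (M ^ k) R L R' L' (B ^ k) (U ^ k) :=
  ⟨h.lr, h.lr', h.cross, h.cross', h.sum, h.pow_mr k, h.pow_mr' k, h.orth⟩

theorem IsDec.eq_sum (h : IsDec S M R L R' L' B U) : M = R * B * L + R' * U * L' := by
  rw [← h.mr, ← h.mr', Matrix.mul_assoc, Matrix.mul_assoc, ← Matrix.mul_add, h.sum, Matrix.mul_one]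

theorem IsDec.eq_one_iff (h : IsDec S M R L R' L' B U) : M = 1 ↔ B = 1 ∧ U = 1 := by
  constructor
  · intro e
    have h1 := congrArg (L * ·) h.mr
    have h2 := congrArg (L' * ·) h.mr'
    simp only [e, Matrix.one_mul, ← Matrix.mul_assoc, h.lr, h.lr'] at h1 h2
    exact ⟨h1.symm, h2.symm⟩
  · rintro ⟨e1, e2⟩
    rw [h.eq_sum, e1, e2, Matrix.mul_one, Matrix.mul_one, h.sum]

theorem IsDec.orderOf_eq (h : IsDec S M R L R' L' B U) :
    orderOf M = Nat.lcm (orderOf B) (orderOf U) := by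
  have key : ∀ k, M ^ k = 1 ↔ B ^ k = 1 ∧ U ^ k = 1 := fun k => (h.pow k).eq_one_iff
  refine Nat.dvd_antisymm (orderOf_dvd_of_pow_eq_one ((key _).2
    ⟨orderOf_dvd_iff_pow_eq_one.1 (Nat.dvd_lcm_left _ _),
      orderOf_dvd_iff_pow_eq_one.1 (Nat.dvd_lcm_right _ _)⟩)) ?_
  obtain ⟨h1, h2⟩ := (key _).1 (pow_orderOf_eq_one M)
  exact Nat.lcm_dvd (orderOf_dvd_of_pow_eq_one h1) (orderOf_dvd_of_pow_eq_one h2)

theorem IsDec.sum_pow (h : IsDec S M R L R' L' B U) (k : ℕ) : ∑ i ∈ Finset.range k, M ^ i =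
    R * (∑ i ∈ Finset.range k, B ^ i) * L + R' * (∑ i ∈ Finset.range k, U ^ i) * L' := by
  simp only [Matrix.mul_sum, Matrix.sum_mul, ← Finset.sum_add_distrib]
  exact Finset.sum_congr rfl fun i _ => (h.pow i).eq_sum

theorem IsDec.orth' (h : IsDec S M R L R' L' B U) (hS : Sᵀ = S) : R'ᵀ * S * R = 0 := by
  have h1 := congrArg Matrix.transpose h.orth
  rwa [transpose_mul, transpose_mul, transpose_transpose, hS, transpose_zero, ← Matrix.mul_assoc] at h1

/-- The discriminant of the pieces. -/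
theorem IsDec.det_eq (h : IsDec S M R L R' L' B U) (hS : Sᵀ = S) :
    ∃ t : F, t ≠ 0 ∧ (Rᵀ * S * R).det * (R'ᵀ * S * R').det = t * t * S.det := by
  obtain rfl := h.dim
  let e := finSumFinEquiv (m := a) (n := c)
  let P : Matrix (Fin a ⊕ Fin c) (Fin a ⊕ Fin c) F := (fromCols R R').submatrix e id
  let Q : Matrix (Fin a ⊕ Fin c) (Fin a ⊕ Fin c) F := (fromRows L L').submatrix id e
  have hQP : Q * P = 1 := by
    simp only [P, Q]
    rw [Matrix.submatrix_mul_equiv, Matrix.submatrix_id_id, fromRows_mul_fromCols, h.lr, h.lr', h.cross,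
      h.cross', fromBlocks_one]
  have hPSP : Pᵀ * S.submatrix e e * P = fromBlocks (Rᵀ * S * R) 0 0 (R'ᵀ * S * R') := by
    simp only [P]
    rw [transpose_submatrix, Matrix.submatrix_mul_equiv, Matrix.submatrix_mul_equiv, Matrix.submatrix_id_id,
      transpose_fromCols, fromRows_mul, fromRows_mul_fromCols, h.orth, h.orth' hS]
  refine ⟨P.det, right_ne_zero_of_mul_eq_one (a := Q.det) (by rw [← det_mul, hQP, det_one]), ?_⟩
  rw [← det_fromBlocks_zero₁₂ (C := (0 : Matrix (Fin c) (Fin a) F)), ← hPSP, det_mul, det_mul, det_transpose,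
    det_submatrix_equiv_self]
  ring

theorem IsDec.iso_left (h : IsDec S M R L R' L' B U) (hS : IsIso S M) : IsIso (Rᵀ * S * R) B := by
  refine ⟨by rw [transpose_mul, transpose_mul, transpose_transpose, hS.1, Matrix.mul_assoc], ?_, ?_⟩
  · obtain ⟨t, ht, e⟩ := h.det_eq hS.1
    refine (Matrix.isUnit_iff_isUnit_det _).2 (isUnit_iff_ne_zero.2 fun h0 => ?_)
    rw [h0, zero_mul] at e
    exact mul_ne_zero (mul_ne_zero ht ht) hS.det_ne e.symm
  · rw [show Bᵀ * (Rᵀ * S * R) * B = (R * B)ᵀ * S * (R * B) by simp only [transpose_mul, Matrix.mul_assoc],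
      ← h.mr, show (M * R)ᵀ * S * (M * R) = Rᵀ * (Mᵀ * S * M) * R by simp only [transpose_mul, Matrix.mul_assoc],
      hS.2.2]

theorem IsDec.symm (h : IsDec S M R L R' L' B U) (hS : Sᵀ = S) : IsDec S M R' L' R L U B :=
  ⟨h.lr', h.lr, h.cross', h.cross, by rw [add_comm]; exact h.sum, h.mr', h.mr, h.orth' hS⟩

end Dec

/-- Two matrices on consecutive coordinates. -/
noncomputable def blk {a c : ℕ} (A : Matrix (Fin a) (Fin a) F) (U : Matrix (Fin c) (Fin c) F) :
    Matrix (Fin (a + c)) (Fin (a + c)) F :=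
  (fromBlocks A 0 0 U).submatrix finSumFinEquiv.symm finSumFinEquiv.symm

theorem blk_mul {a c : ℕ} (A A' : Matrix (Fin a) (Fin a) F) (U U' : Matrix (Fin c) (Fin c) F) :
    blk A U * blk A' U' = blk (A * A') (U * U') := by
  simp [blk, fromBlocks_multiply]

theorem blk_transpose {a c : ℕ} (A : Matrix (Fin a) (Fin a) F) (U : Matrix (Fin c) (Fin c) F) :
    (blk A U)ᵀ = blk Aᵀ Uᵀ := by
  simp [blk, fromBlocks_transpose]

theorem blk_det {a c : ℕ} (A : Matrix (Fin a) (Fin a) F) (U : Matrix (Fin c) (Fin c) F) :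
    (blk A U).det = A.det * U.det := by
  rw [blk, det_submatrix_equiv_self, det_fromBlocks_zero₁₂]

theorem blk_one {a c : ℕ} : blk (1 : Matrix (Fin a) (Fin a) F) (1 : Matrix (Fin c) (Fin c) F) = 1 := by
  simp [blk, fromBlocks_one]

theorem blk_pow {a c : ℕ} (A : Matrix (Fin a) (Fin a) F) (U : Matrix (Fin c) (Fin c) F) :
    ∀ k : ℕ, blk A U ^ k = blk (A ^ k) (U ^ k)
  | 0 => by rw [pow_zero, pow_zero, pow_zero, blk_one]
  | k + 1 => by rw [pow_succ, blk_pow A U k, blk_mul, pow_succ, pow_succ]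

theorem IsIso.blk {a c : ℕ} {S A : Matrix (Fin a) (Fin a) F} {T U : Matrix (Fin c) (Fin c) F}
    (h : IsIso S A) (h' : IsIso T U) : IsIso (O9Spec.blk S T) (O9Spec.blk A U) := by
  refine ⟨by rw [blk_transpose, h.1, h'.1], (Matrix.isUnit_iff_isUnit_det _).2 ?_, ?_⟩
  · rw [blk_det]; exact isUnit_iff_ne_zero.2 (mul_ne_zero h.det_ne h'.det_ne)
  · rw [blk_transpose, blk_mul, blk_mul, h.2.2, h'.2.2]

theorem exists_dec_blk {a c : ℕ} (S A : Matrix (Fin a) (Fin a) F) (T U : Matrix (Fin c) (Fin c) F) :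
    ∃ R L R' L', IsDec (blk S T) (blk A U) R L R' L' A U ∧ Rᵀ * blk S T * R = S ∧
      R'ᵀ * blk S T * R' = T := by
  refine ⟨(fromRows 1 0).submatrix finSumFinEquiv.symm id, (fromCols 1 0).submatrix id finSumFinEquiv.symm,
    (fromRows 0 1).submatrix finSumFinEquiv.symm id, (fromCols 0 1).submatrix id finSumFinEquiv.symm,
    ⟨?_, ?_, ?_, ?_, ?_, ?_, ?_, ?_⟩, ?_, ?_⟩ <;>
  (try simp only [blk, transpose_submatrix, Matrix.submatrix_mul_equiv, transpose_fromRows, Matrix.submatrix_id_id,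
    fromCols_mul_fromRows, fromRows_mul_fromCols, fromCols_mul_fromBlocks, fromBlocks_mul_fromRows,
    Matrix.mul_one, Matrix.one_mul, Matrix.mul_zero, Matrix.zero_mul, add_zero, zero_add, transpose_one,
    transpose_zero])
  all_goals first
    | rfl
    | (rw [← Matrix.submatrix_mul _ _ _ _ _ Function.bijective_id, ← Matrix.submatrix_mul _ _ _ _ _
        Function.bijective_id, fromRows_mul_fromCols, fromRows_mul_fromCols, ← Matrix.submatrix_add,
        fromBlocks_add]; simp [fromBlocks_one])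
    | (ext i j; rcases h : finSumFinEquiv.symm i with k | k <;> simp [Matrix.mul_apply, h, Matrix.one_apply] <;> done)
    | (ext i j; obtain ⟨i, rfl⟩ := finSumFinEquiv.surjective i; obtain ⟨j, rfl⟩ := finSumFinEquiv.surjective j
       rcases i with i | i <;> rcases j with j | j <;> simp [Matrix.mul_apply, Matrix.one_apply] <;>
         (simp [Fin.ext_iff]; intro h; have := i.isLt; have := j.isLt; omega))

theorem aeval_intertwine {m n : Type*} [Fintype m] [DecidableEq m] [Fintype n] [DecidableEq n]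
    {M : Matrix m m F} {B : Matrix n n F} {R : Matrix m n F} (h : M * R = R * B) (P : F[X]) :
    aeval M P * R = R * aeval B P := by
  induction P using Polynomial.induction_on with
  | C x => simp [Algebra.algebraMap_eq_smul_one]
  | add P Q hP hQ => rw [map_add, map_add, Matrix.add_mul, Matrix.mul_add, hP, hQ]
  | monomial k x ih =>
    rw [show C x * X ^ (k + 1) = C x * X ^ k * X by ring, map_mul _ _ X, map_mul _ _ X, aeval_X, aeval_X,
      Matrix.mul_assoc, h, ← Matrix.mul_assoc, ih, Matrix.mul_assoc]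

/-- The generalised fixed space and its complement. -/
theorem exists_fitting [Fintype F] {N : ℕ} {S A : Matrix (Fin N) (Fin N) F} (hSA : IsIso S A) :
    ∃ (a c : ℕ) (R : Matrix (Fin N) (Fin a) F) (L : Matrix (Fin a) (Fin N) F)
      (R' : Matrix (Fin N) (Fin c) F) (L' : Matrix (Fin c) (Fin N) F)
      (B : Matrix (Fin a) (Fin a) F) (U : Matrix (Fin c) (Fin c) F),
      IsDec S A R L R' L' B U ∧ (1 - B).det ≠ 0 ∧ IsNilpotent (U - 1) := by
  classical
  obtain ⟨h, hχ, hh⟩ := exists_eq_pow_rootMultiplicity_mul_and_not_dvd A.charpoly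
    A.charpoly_monic.ne_zero 1
  set m := rootMultiplicity 1 A.charpoly
  have hcop : IsCoprime ((X - C (1 : F)) ^ (m + 1)) h :=
    IsCoprime.pow_left ((irreducible_X_sub_C 1).coprime_iff_not_dvd.2 hh)
  obtain ⟨u, v, huv⟩ := hcop
  set E := aeval A (u * (X - C 1) ^ (m + 1)) with hE
  set E' := aeval A (v * h) with hE'
  have hsum : E + E' = 1 := by rw [hE, hE', ← map_add, huv, map_one]
  have hkill : aeval A ((X - C 1) ^ (m + 1) * h) = 0 := by
    rw [show (X - C (1 : F)) ^ (m + 1) * h = (X - C 1) * A.charpoly by rw [hχ]; ring, map_mul,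
      aeval_self_charpoly, mul_zero]
  have hEE' : E * E' = 0 := by
    rw [hE, hE', ← map_mul, show u * (X - C 1) ^ (m + 1) * (v * h) = u * v * ((X - C 1) ^ (m + 1) * h) by ring,
      map_mul, hkill, mul_zero]
  have hE'E : E' * E = 0 := by
    rw [hE, hE', ← map_mul, mul_comm, map_mul]; exact hEE'
  have hEE : E * E = E := by
    conv_rhs => rw [← mul_one E, ← hsum, mul_add, hEE', add_zero]
  have hE'E' : E' * E' = E' := by
    conv_rhs => rw [← mul_one E', ← hsum, mul_add, hE'E, zero_add]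
  have hx : aeval A ((X - C (1 : F)) ^ (m + 1)) = (A - 1) ^ (m + 1) := by simp
  have hXE' : (A - 1) ^ (m + 1) * E' = 0 := by
    rw [hE', ← hx, ← map_mul, show (X - C 1) ^ (m + 1) * (v * h) = v * ((X - C (1 : F)) ^ (m + 1) * h) by ring,
      map_mul, hkill, mul_zero]
  have horth : E'ᵀ * S * E = 0 := by
    rw [hE, mul_comm, map_mul, hx, ← Matrix.mul_assoc, Matrix.mul_assoc E'ᵀ S, hSA.mul_sub_pow,
      Matrix.mul_smul, ← Matrix.mul_assoc, ← transpose_mul, hXE', transpose_zero, Matrix.zero_mul, smul_zero,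
      Matrix.zero_mul]
  have horth' : Eᵀ * S * E' = 0 := by
    have h1 := congrArg Matrix.transpose horth
    rwa [transpose_mul, transpose_mul, transpose_transpose, hSA.1, transpose_zero, ← Matrix.mul_assoc] at h1
  have hET : Eᵀ * S = S * E := by
    calc Eᵀ * S = Eᵀ * S * (E + E') := by rw [hsum, mul_one]
      _ = Eᵀ * S * E + E'ᵀ * S * E := by rw [mul_add, horth', horth]
      _ = (E + E')ᵀ * S * E := by rw [transpose_add, add_mul, add_mul]
      _ = S * E := by rw [hsum, transpose_one, one_mul]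
  have hE'T : E'ᵀ * S = S * E' := by
    rw [show E' = 1 - E by rw [← hsum]; abel, transpose_sub, transpose_one, sub_mul, mul_sub, one_mul, mul_one,
      hET]
  have hcomm : ∀ P : F[X], Commute A (aeval A P) := fun P => by
    have h1 := (Commute.all X P).map (aeval A)
    rwa [aeval_X] at h1
  obtain ⟨a, R, L, B, hLR, hRL, hAR, -, -, -⟩ :=
    PrimeGraph.exists_restrict hSA.2.1 hEE hET (hcomm _) hSA.2.2
  obtain ⟨c, R', L', U, hLR', hRL', hAR', -, -, -⟩ :=
    PrimeGraph.exists_restrict hSA.2.1 hE'E' hE'T (hcomm _) hSA.2.2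
  have hcr : L * R' = 0 := by
    calc L * R' = (L * R) * L * R' * (L' * R') := by rw [hLR, hLR', Matrix.one_mul, Matrix.mul_one]
      _ = L * (R * L * (R' * L')) * R' := by simp only [Matrix.mul_assoc]
      _ = 0 := by rw [hRL, hRL', hEE', Matrix.mul_zero, Matrix.zero_mul]
  have hcr' : L' * R = 0 := by
    calc L' * R = (L' * R') * L' * R * (L * R) := by rw [hLR, hLR', Matrix.one_mul, Matrix.mul_one]
      _ = L' * (R' * L' * (R * L)) * R := by simp only [Matrix.mul_assoc]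
      _ = 0 := by rw [hRL, hRL', hE'E, Matrix.mul_zero, Matrix.zero_mul]
  have hRe : E * R = R := by rw [← hRL, Matrix.mul_assoc, hLR, Matrix.mul_one]
  have hRe' : E' * R' = R' := by rw [← hRL', Matrix.mul_assoc, hLR', Matrix.mul_one]
  refine ⟨a, c, R, L, R', L', B, U, ⟨hLR, hLR', hcr, hcr', by rw [hRL, hRL', hsum], hAR, hAR', ?_⟩, ?_, ?_⟩
  · rw [show Rᵀ * S * R' = (E * R)ᵀ * S * (E' * R') by rw [hRe, hRe'],
      show (E * R)ᵀ * S * (E' * R') = Rᵀ * (Eᵀ * S * E') * R' by simp only [transpose_mul, Matrix.mul_assoc],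
      horth', Matrix.mul_zero, Matrix.zero_mul]
  · have h1 : aeval B (u * (X - C 1) ^ (m + 1)) = 1 := by
      have h2 := congrArg (L * ·) (aeval_intertwine hAR (u * (X - C 1) ^ (m + 1)))
      simp only [← hE, hRe, hLR, ← Matrix.mul_assoc, Matrix.one_mul] at h2
      exact h2.symm
    intro h0
    have h3 := congrArg Matrix.det h1
    rw [map_mul, det_mul, det_one, map_pow, det_pow, map_sub, aeval_X, aeval_C, map_one] at h3
    rw [show B - 1 = -(1 - B) by abel, det_neg, h0, mul_zero, zero_pow m.succ_ne_zero, mul_zero] at h3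
    exact zero_ne_one h3
  · refine ⟨m + 1, ?_⟩
    have h2 := congrArg (L' * ·) (aeval_intertwine hAR' ((X - C 1) ^ (m + 1)))
    rw [hx] at h2
    rw [← hRe', ← Matrix.mul_assoc ((A - 1) ^ (m + 1)), hXE', Matrix.zero_mul, Matrix.mul_zero, hRe',
      ← Matrix.mul_assoc, hLR', Matrix.one_mul] at h2
    rw [map_pow, map_sub, aeval_X, aeval_C, map_one] at h2
    exact h2.symm

end CfsgLib.KnownB.O9Spec
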