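import Cfsg.Agent.Lib.KnownB.O9Spec.Unip
import Cfsg.Agent.Lib.KnownB.IsometryOrderBound

/-!
The factors of the minimal polynomial of an isometry without eigenvalues `±1`, with their weights.
-/

set_option autoImplicit false
set_option linter.unusedSectionVars false

namespace CfsgLib.KnownB.O9Spec

open Polynomial Matrix UniqueFactorizationMonoid CfsgLib.KnownB.PrimeGraph CfsgLib.KnownB.IsometryOrder

universe u

variable {F : Type u} [Field F] [Fintype F]

theorem revM_revM {f : F[X]} (hm : f.Monic) (h0 : f.coeff 0 ≠ 0) : revM (revM f) = f := by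
  have hrr : f.reverse.reverse = f := by
    ext i
    rw [coeff_reverse, coeff_reverse, reverse_natDegree, PrimeGraph.natTrailingDegree_eq_zero h0, Nat.sub_zero,
      revAt_invol]
  have hr0 : (revM f).coeff 0 ≠ 0 := by
    rw [revM, coeff_C_mul, coeff_zero_reverse, hm.leadingCoeff, mul_one]
    exact inv_ne_zero h0
  refine eq_of_monic_of_associated (revM_monic hr0) hm ((associated_revM hr0).trans ?_)
  rw [revM, reverse_mul_of_domain, reverse_C, hrr]
  exact associated_unit_mul_left _ _ (Polynomial.isUnit_C.2 (inv_ne_zero h0).isUnit)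

theorem dvd_X_pow_sub_one_trans {f : F[X]} {t m : ℕ} (h : f ∣ X ^ t - 1) (ht : t ∣ m) : f ∣ X ^ m - 1 := by
  obtain ⟨j, rfl⟩ := ht
  exact h.trans (by simpa [← pow_mul] using sub_dvd_pow_sub_pow (X ^ t : F[X]) 1 j)

/-- An isometry without eigenvalues `±1` lives in even dimension. -/
theorem even_dim (h2 : (2 : F) ≠ 0) {n : ℕ} {S C : Matrix (Fin n) (Fin n) F} (h : IsIso S C)
    (h1 : (1 - C).det ≠ 0) (h1' : (1 + C).det ≠ 0) : Even n := by
  have key : ∀ D : Matrix (Fin n) (Fin n) F, IsIso S D → (1 - D).det ≠ 0 → D.det = (-1) ^ n := by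
    intro D hD hD1
    have e : (1 - D)ᵀ * S * D = -(S * (1 - D)) := by
      rw [transpose_sub, transpose_one, sub_mul, sub_mul, one_mul, hD.2.2, mul_sub, mul_one, neg_sub]
    have e' := congrArg Matrix.det e
    rw [det_mul, det_mul, det_transpose, det_neg, det_mul, Fintype.card_fin] at e'
    refine mul_left_cancel₀ (mul_ne_zero hD1 hD.det_ne) ?_
    linear_combination e'
  have hneg : IsIso S (-C) := ⟨h.1, h.2.1, by rw [transpose_neg, Matrix.neg_mul, Matrix.neg_mul, Matrix.mul_neg,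
    neg_neg, h.2.2]⟩
  have e1 := key C h h1
  have e2 := key (-C) hneg (by rwa [sub_neg_eq_add])
  rw [det_neg, Fintype.card_fin, e1] at e2
  rcases Nat.even_or_odd n with hn | hn
  · exact hn
  · rw [hn.neg_one_pow] at e2
    exact absurd (show (2 : F) = 0 by linear_combination e2) h2

/-- Factors with exponents and weights: `2 e w` dimensions are used by every orbit under reversal. -/
structure Factors {n : ℕ} (p : ℕ) (C : Matrix (Fin n) (Fin n) F) (P : Finset F[X]) (e w : F[X] → ℕ) : Prop where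
  irr : ∀ f ∈ P, Irreducible f
  monic : ∀ f ∈ P, f.Monic
  coeff : ∀ f ∈ P, f.coeff 0 ≠ 0
  one_le : ∀ f ∈ P, 1 ≤ e f
  dvd : ∀ f ∈ P, f ^ e f ∣ minpoly F C
  rev : ∀ f ∈ P, revM f ∈ P ∧ e (revM f) = e f
  kind : ∀ f ∈ P, 0 < w f ∧
    ((revM f = f ∧ f.natDegree = 2 * w f ∧ f ∣ X ^ (Fintype.card F ^ w f + 1) - 1) ∨
      (revM f ≠ f ∧ f.natDegree = w f ∧ f ∣ X ^ (Fintype.card F ^ w f - 1) - 1))
  sum_le : ∀ s : Finset F[X], s ⊆ P → ∑ f ∈ s, e f * f.natDegree ≤ n
  ann : ∀ m b, (∀ f ∈ P, f ∣ X ^ m - 1 ∧ e f ≤ p ^ b) → C ^ (m * p ^ b) = 1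

theorem exists_factors (p : ℕ) [Fact p.Prime] [CharP F p] {n : ℕ} {S C : Matrix (Fin n) (Fin n) F}
    (hC : IsIso S C) (h1 : (1 - C).det ≠ 0) (h1' : (1 + C).det ≠ 0) :
    ∃ (P : Finset F[X]) (e w : F[X] → ℕ), Factors p C P e w := by
  classical
  have hint : IsIntegral F C := Matrix.isIntegral C
  set μ := minpoly F C with hμ
  have hμm : μ.Monic := minpoly.monic hint
  have hμ0 : μ ≠ 0 := hμm.ne_zero
  set fs := normalizedFactors μ with hfs
  set P := fs.toFinset with hPdef
  have hirr : ∀ f ∈ P, Irreducible f := fun f hf =>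
    irreducible_of_normalized_factor f (Multiset.mem_toFinset.1 hf)
  have hmon : ∀ f ∈ P, f.Monic := fun f hf => by
    rw [← normalize_normalized_factor f (Multiset.mem_toFinset.1 hf)]
    exact Polynomial.monic_normalize (hirr f hf).ne_zero
  have hc0 : ∀ f ∈ P, f.coeff 0 ≠ 0 := fun f hf =>
    coeff_zero_ne_of_dvd (dvd_of_mem_normalizedFactors (Multiset.mem_toFinset.1 hf))
      (coeff_zero_minpoly hC.isUnit)
  let e : F[X] → ℕ := fun f => fs.count f
  have hprod : μ = ∏ f ∈ P, f ^ e f := by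
    rw [← Finset.prod_multiset_count, prod_normalizedFactors_eq hμ0, hμm.normalize_eq_self]
  have he1 : ∀ f ∈ P, 1 ≤ e f := fun f hf => Multiset.one_le_count_iff_mem.2 (Multiset.mem_toFinset.1 hf)
  have hrevP : ∀ f ∈ P, revM f ∈ P ∧ e f ≤ e (revM f) := by
    intro f hf
    have hd : f ^ e f ∣ μ := hprod ▸ Finset.dvd_prod_of_mem (fun f => f ^ e f) hf
    have h1 : revM f ^ e f ∣ μ := by
      rw [← revM_pow (hc0 f hf)]
      exact revM_dvd_minpoly hC.2.1 hC.2.2 (coeff_zero_ne_of_dvd hd (coeff_zero_minpoly hC.isUnit)) hd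
    have hi := irreducible_revM (hirr f hf) (hc0 f hf)
    rw [dvd_iff_normalizedFactors_le_normalizedFactors (pow_ne_zero _ hi.ne_zero) hμ0, hi.normalizedFactors_pow,
      (revM_monic (hc0 f hf)).normalize_eq_self] at h1
    have h2 := Multiset.le_count_iff_replicate_le.2 h1
    exact ⟨Multiset.mem_toFinset.2 (Multiset.count_pos.1 ((he1 f hf).trans h2)), h2⟩
  -- no eigenvalue `±1`
  have hnotsq : ∀ f ∈ P, ¬ f ∣ X ^ 2 - 1 := by
    intro f hf h
    have hfμ : f ∣ μ := dvd_of_mem_normalizedFactors (Multiset.mem_toFinset.1 hf)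
    obtain ⟨v, hv, hfv⟩ := PrimeGraph.exists_ker_vec (hirr f hf) hfμ
    obtain ⟨g, hg⟩ := h
    have h0 : aeval C ((X : F[X]) ^ 2 - 1) *ᵥ v = 0 := by
      rw [hg, mul_comm, map_mul, ← Matrix.mulVec_mulVec, hfv, Matrix.mulVec_zero]
    rw [map_sub, map_pow, aeval_X, map_one, show C ^ 2 - 1 = (1 + C) * (-(1 - C)) by
      rw [pow_two, mul_neg, add_mul, mul_sub, mul_sub, mul_one, one_mul, mul_one]; abel,
      ← Matrix.mulVec_mulVec] at h0
    have h3 := Matrix.eq_zero_of_mulVec_eq_zero h1' h0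
    rw [Matrix.neg_mulVec, neg_eq_zero] at h3
    exact hv (Matrix.eq_zero_of_mulVec_eq_zero h1 h3)
  let w : F[X] → ℕ := fun f => if revM f = f then f.natDegree / 2 else f.natDegree
  refine ⟨P, e, w, hirr, hmon, hc0, he1, fun f hf => by rw [← hμ, hprod]; exact Finset.dvd_prod_of_mem (fun f => f ^ e f) hf,
    fun f hf => ⟨(hrevP f hf).1, le_antisymm ?_ (hrevP f hf).2⟩, fun f hf => ?_, fun s hs => ?_, fun m b h => ?_⟩
  · have h3 := (hrevP _ (hrevP f hf).1).2
    rwa [revM_revM (hmon f hf) (hc0 f hf)] at h3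
  · have hpos := (hirr f hf).natDegree_pos
    by_cases hs : revM f = f
    · obtain ⟨h, hd, hdvd⟩ := PrimeGraph.selfdual (hirr f hf) (hc0 f hf) (by
        have h := (associated_revM (hc0 f hf)).dvd
        rwa [hs] at h) (hnotsq f hf)
      have hw : w f = h := by simp only [w, if_pos hs, hd]; omega
      rw [hw]
      exact ⟨by omega, Or.inl ⟨hs, hd, hdvd⟩⟩
    · have hw : w f = f.natDegree := if_neg hs
      rw [hw]
      exact ⟨hpos, Or.inr ⟨hs, rfl, dvd_X_pow_card_pow_sub_one (hirr f hf) (hc0 f hf)⟩⟩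
  · have hdeg : ∑ f ∈ P, e f * f.natDegree ≤ n := by
      have h1 : μ.natDegree = ∑ f ∈ P, e f * f.natDegree := by
        rw [hprod, natDegree_prod _ _ fun f hf => pow_ne_zero _ (hirr f hf).ne_zero]
        exact Finset.sum_congr rfl fun f _ => natDegree_pow f _
      rw [← h1]
      refine (natDegree_le_of_dvd C.minpoly_dvd_charpoly C.charpoly_monic.ne_zero).trans ?_
      rw [C.charpoly_natDegree_eq_dim, Fintype.card_fin]
    exact le_trans (Finset.sum_le_sum_of_subset hs) hdeg
  · have hdvd : μ ∣ (X ^ m - 1) ^ p ^ b := by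
      rw [hprod]
      refine Finset.prod_dvd_of_coprime (fun f hf g hg hfg => IsCoprime.pow
        ((hirr f hf).coprime_iff_not_dvd.2 fun h => hfg
          (eq_of_monic_of_associated (hmon f hf) (hmon g hg) ((hirr f hf).associated_of_dvd (hirr g hg) h)))) ?_
      intro f hf
      exact (pow_dvd_pow f (h f hf).2).trans (pow_dvd_pow_of_dvd (h f hf).1 _)
    obtain ⟨c, hc⟩ := hdvd
    have h := congrArg (aeval C) hc
    rw [map_mul, minpoly.aeval, zero_mul, sub_pow_char_pow, one_pow, ← pow_mul, map_sub, map_pow,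
      aeval_X, map_one, sub_eq_zero] at h
    exact h

namespace Factors

variable {n p : ℕ} {C : Matrix (Fin n) (Fin n) F} {P : Finset F[X]} {e w : F[X] → ℕ}

/-- Two factors are in the same orbit. -/
def SameOrbit (f g : F[X]) : Prop := g = f ∨ g = revM f

theorem e_eq_of_sameOrbit (H : Factors p C P e w) {f g : F[X]} (hf : f ∈ P) (h : SameOrbit f g) :
    e g = e f := by
  rcases h with rfl | rfl
  · rfl
  · exact (H.rev f hf).2

theorem dvd_of_sameOrbit (H : Factors p C P e w) {f g : F[X]} (hf : f ∈ P) (h : SameOrbit f g) {m : ℕ}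
    (hm : 0 < m) (hd : f ∣ X ^ m - 1) : g ∣ X ^ m - 1 := by
  rcases h with rfl | rfl
  · exact hd
  · exact revM_dvd_X_pow_sub_one hm hd

open _root_.Classical in
theorem orbit_sum (H : Factors p C P e w) {f : F[X]} (hf : f ∈ P) :
    ∑ g ∈ ({f, revM f} : Finset F[X]), e g * g.natDegree = 2 * (e f * w f) := by
  rcases (H.kind f hf).2 with ⟨hs, hd, -⟩ | ⟨hs, hd, -⟩
  · rw [hs, Finset.pair_eq_singleton, Finset.sum_singleton, hd]; ring
  · rw [Finset.sum_pair (Ne.symm hs), (H.rev f hf).2, natDegree_revM (H.coeff f hf), hd]; ring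

open _root_.Classical in
theorem orbit_disjoint (H : Factors p C P e w) {f g : F[X]} (hf : f ∈ P) (hg : g ∈ P) (h : ¬ SameOrbit f g) :
    Disjoint ({f, revM f} : Finset F[X]) {g, revM g} := by
  rw [Finset.disjoint_left]
  intro x hx hx'
  simp only [Finset.mem_insert, Finset.mem_singleton] at hx hx'
  refine h ?_
  rcases hx' with rfl | rfl
  · exact hx
  · rcases hx with hx | hx
    · right; rw [← hx, revM_revM (H.monic g hg) (H.coeff g hg)]
    · left
      have := congrArg revM hx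
      rwa [revM_revM (H.monic g hg) (H.coeff g hg), revM_revM (H.monic f hf) (H.coeff f hf)] at this

open _root_.Classical in
theorem weight_one (H : Factors p C P e w) {f : F[X]} (hf : f ∈ P) : 2 * (e f * w f) ≤ n := by
  rw [← H.orbit_sum hf]
  exact H.sum_le _ (by simp [Finset.insert_subset_iff, hf, (H.rev f hf).1])

open _root_.Classical in
theorem weight_two (H : Factors p C P e w) {f g : F[X]} (hf : f ∈ P) (hg : g ∈ P) (h : ¬ SameOrbit f g) :
    2 * (e f * w f) + 2 * (e g * w g) ≤ n := by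
  rw [← H.orbit_sum hf, ← H.orbit_sum hg, ← Finset.sum_union (H.orbit_disjoint hf hg h)]
  exact H.sum_le _ (by simp [Finset.insert_subset_iff, Finset.union_subset_iff, hf, hg, (H.rev f hf).1,
    (H.rev g hg).1])

open _root_.Classical in
theorem weight_three (H : Factors p C P e w) {f g k : F[X]} (hf : f ∈ P) (hg : g ∈ P) (hk : k ∈ P)
    (h : ¬ SameOrbit f g) (h' : ¬ SameOrbit f k) (h'' : ¬ SameOrbit g k) :
    2 * (e f * w f) + 2 * (e g * w g) + 2 * (e k * w k) ≤ n := by
  rw [← H.orbit_sum hf, ← H.orbit_sum hg, ← H.orbit_sum hk,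
    ← Finset.sum_union (H.orbit_disjoint hf hg h),
    ← Finset.sum_union (Finset.disjoint_union_left.2 ⟨H.orbit_disjoint hf hk h', H.orbit_disjoint hg hk h''⟩)]
  exact H.sum_le _ (by simp [Finset.insert_subset_iff, Finset.union_subset_iff, hf, hg, hk, (H.rev f hf).1,
    (H.rev g hg).1, (H.rev k hk).1])

end Factors

end CfsgLib.KnownB.O9Spec
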