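import Cfsg.Agent.Lib.KnownB.O9Spec.Torus
import Cfsg.Agent.Lib.KnownB.O9Spec.Factors

/-!
Element orders of `Ω₈⁺(q)` without fixed vectors divide a few explicit numbers.
-/

set_option autoImplicit false
set_option linter.unusedSectionVars false

namespace CfsgLib.KnownB.O9Spec

open Polynomial Matrix CfsgLib.KnownB.PrimeGraph

universe u

variable {F : Type u} [Field F] [Fintype F]

/-- The numbers covering the orders. -/
def IsTarget (p q N : ℕ) : Prop :=
  N = Nat.lcm (q ^ 3 - 1) (q + 1) ∨ N = Nat.lcm (q ^ 3 + 1) (q - 1) ∨ N = Nat.lcm (q ^ 2 - 1) (q ^ 2 + 1) ∨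
    N = p * Nat.lcm (q ^ 2 + 1) (q - 1) ∨ N = p * Nat.lcm (q ^ 2 + 1) (q + 1) ∨ N = p * (q ^ 2 - 1) ∨
    (p = 3 ∧ (N = p ^ 2 * (q - 1) ∨ N = p ^ 2 * (q + 1))) ∨ (p ≤ 5 ∧ N = p ^ 2 * 2)

theorem torus_arith {q : ℕ} (hq : Odd q) (h3 : 3 ≤ q) :
    q - 1 ∣ q ^ 2 - 1 ∧ q + 1 ∣ q ^ 2 - 1 ∧ q - 1 ∣ q ^ 3 - 1 ∧ q + 1 ∣ q ^ 3 + 1 ∧ 2 ∣ q - 1 ∧ 2 ∣ q + 1 ∧
      (q ^ 4 - 1) / 2 ∣ Nat.lcm (q ^ 2 - 1) (q ^ 2 + 1) ∧ 0 < q - 1 ∧ 0 < q ^ 2 - 1 ∧ 0 < q ^ 3 - 1 ∧
      Even ((q ^ 4 - 1) / 2) ∧ 0 < (q ^ 4 - 1) / 2 := by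
  obtain ⟨i, rfl⟩ := hq
  have hsq : (2 * i + 1) ^ 2 = 4 * (i * i + i) + 1 := by ring
  have h4 : (2 * i + 1) ^ 4 = 2 * (4 * (i * i + i) * (2 * (i * i + i) + 1)) + 1 := by ring
  have hc : (2 * i + 1) ^ 3 = 2 * (4 * i * i * i + 6 * i * i + 3 * i) + 1 := by ring
  refine ⟨by simpa using Nat.sub_dvd_pow_sub_pow (2 * i + 1) 1 2, ⟨2 * i, ?_⟩,
    by simpa using Nat.sub_dvd_pow_sub_pow (2 * i + 1) 1 3, ⟨4 * i * i + 2 * i + 1, by ring⟩, by omega,
    by omega, ?_, by omega, by omega, by omega, ?_, ?_⟩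
  · rw [hsq, Nat.add_sub_cancel]; ring
  · rw [h4, Nat.add_sub_cancel, Nat.mul_div_cancel_left _ two_pos, hsq, Nat.add_sub_cancel]
    obtain ⟨j, hj⟩ : ∃ j, j = i * i + i := ⟨_, rfl⟩
    rw [← hj, show 4 * j + 1 + 1 = 2 * (2 * j + 1) by ring]
    refine Nat.Coprime.mul_dvd_of_dvd_of_dvd ?_ (Nat.dvd_lcm_left _ _)
      ((dvd_mul_left _ 2).trans (Nat.dvd_lcm_right _ _))
    refine Nat.Coprime.mul_left ?_ ?_
    · rw [show (4 : ℕ) = 2 ^ 2 by norm_num]
      exact Nat.Coprime.pow_left _ (Nat.coprime_two_left.2 ⟨j, rfl⟩)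
    · exact Nat.coprime_comm.1 (by simp)
  · rw [h4, Nat.add_sub_cancel, Nat.mul_div_cancel_left _ two_pos]
    exact ⟨2 * (i * i + i) * (2 * (i * i + i) + 1), by ring⟩
  · rw [h4, Nat.add_sub_cancel, Nat.mul_div_cancel_left _ two_pos]
    have : 0 < i := by omega
    positivity

theorem dvd_two_of_plus (h2 : (2 : F) ≠ 0) (hq : Odd (Fintype.card F))
    {S A : Matrix (Fin 8) (Fin 8) F} (h : IsIso S A) (hd : IsSquare S.det)
    (hA : A ^ (Fintype.card F ^ 4 + 1) = 1) : orderOf A ∣ 2 := by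
  set q := Fintype.card F
  have h1 := orderOf_dvd_card_plus h2 (k := 3) (S := S) (A := A) h
    (by rw [(show Even (3 + 1) from ⟨2, rfl⟩).neg_one_pow, one_mul]; exact hd)
  have h3 : orderOf A ∣ q ^ 4 + 1 := orderOf_dvd_of_pow_eq_one hA
  simp only [Finset.prod_range_succ, Finset.prod_range_zero, one_mul] at h1
  have hq0 : 0 < q := Fintype.card_pos
  have hZ : (orderOf A : ℤ) ∣ 2 * (q : ℤ) ^ 12 * ((q : ℤ) ^ 4 - 1) *
      (((q : ℤ) ^ 2 - 1) * ((q : ℤ) ^ 4 - 1) * ((q : ℤ) ^ 6 - 1)) := by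
    have h4 := Int.natCast_dvd_natCast.2 h1
    norm_num [Nat.cast_sub (Nat.one_le_pow _ _ (Fintype.card_pos (α := F)))] at h4
    exact h4
  have hx : (orderOf A : ℤ) ∣ (q : ℤ) ^ 4 + 1 := by exact_mod_cast h3
  generalize hx' : (q : ℤ) = x at hZ hx
  have m4 : x ^ 4 ≡ -1 [ZMOD (orderOf A : ℤ)] := by
    rw [Int.modEq_iff_dvd, show -1 - x ^ 4 = -(x ^ 4 + 1) by ring]
    exact dvd_neg.2 hx
  have m12 : x ^ 12 ≡ (-1) ^ 3 [ZMOD (orderOf A : ℤ)] := by
    rw [show x ^ 12 = (x ^ 4) ^ 3 by ring]; exact m4.pow 3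
  have m6 : x ^ 6 ≡ -1 * x ^ 2 [ZMOD (orderOf A : ℤ)] := by
    rw [show x ^ 6 = x ^ 4 * x ^ 2 by ring]; exact m4.mul_right _
  have mm : 2 * x ^ 12 * (x ^ 4 - 1) * ((x ^ 2 - 1) * (x ^ 4 - 1) * (x ^ 6 - 1)) ≡
      2 * (-1) ^ 3 * (-1 - 1) * ((x ^ 2 - 1) * (-1 - 1) * (-1 * x ^ 2 - 1)) [ZMOD (orderOf A : ℤ)] :=
    ((m12.mul_left 2).mul (m4.sub_right 1)).mul (((Int.ModEq.refl _).mul (m4.sub_right 1)).mul (m6.sub_right 1))
  have h8 := (Int.modEq_zero_iff_dvd).1 (mm.symm.trans (Int.modEq_zero_iff_dvd.2 hZ))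
  have h16 : (orderOf A : ℤ) ∣ 16 := by
    obtain ⟨c, hc⟩ := h8
    obtain ⟨d, hd'⟩ := hx
    exact ⟨8 * d - c, by linear_combination (-1 : ℤ) * hc + 8 * hd'⟩
  have h16' : orderOf A ∣ 2 ^ 4 := by exact_mod_cast h16
  obtain ⟨j, -, hj⟩ := (Nat.dvd_prime_pow Nat.prime_two).1 h16'
  rw [hj]
  refine (pow_dvd_pow 2 (show j ≤ 1 from ?_)).trans (pow_one 2).dvd
  by_contra hlt
  have h4' : 4 ∣ q ^ 4 + 1 := (show 2 ^ 2 ∣ orderOf A from hj ▸ pow_dvd_pow 2 (by omega)).trans h3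
  obtain ⟨i, hi⟩ := hq
  obtain ⟨d, hd4⟩ := h4'
  have : q ^ 4 + 1 = 4 * (4 * i ^ 4 + 8 * i ^ 3 + 6 * i ^ 2 + 2 * i) + 2 := by rw [hi]; ring
  omega

set_option maxHeartbeats 800000 in
/-- The orders without fixed vectors in the plus type. -/
theorem exists_target (p : ℕ) [Fact p.Prime] [CharP F p] (hp3 : 3 ≤ p) (h2 : (2 : F) ≠ 0)
    (hq : Odd (Fintype.card F)) {S A : Matrix (Fin 8) (Fin 8) F} (hA : IsIso S A) (hA1 : (1 - A).det ≠ 0)
    (hS : IsSquare S.det) (hsq : IsSquare (1 - A).det) :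
    ∃ N, IsTarget p (Fintype.card F) N ∧ A ^ N = 1 := by
  classical
  have hp := (Fact.out : p.Prime)
  set q := Fintype.card F with hqdef
  have hq3 : 3 ≤ q := by
    obtain ⟨i, hi⟩ := hq
    have := Fintype.one_lt_card (α := F)
    omega
  obtain ⟨d1, d2, d3, d4, e1, e2, dT, pq1, pq2, pq3, heven, hpos⟩ := torus_arith hq hq3
  -- split off the eigenvalue `-1`
  have hneg : IsIso S (-A) := ⟨hA.1, hA.2.1, by
    rw [transpose_neg, Matrix.neg_mul, Matrix.neg_mul, Matrix.mul_neg, neg_neg, hA.2.2]⟩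
  obtain ⟨n, c, R, L, R', L', B, U, hd, hB, hU⟩ := exists_fitting hneg
  have hdA : IsDec S A R L R' L' (-B) (-U) := ⟨hd.lr, hd.lr', hd.cross, hd.cross', hd.sum,
    by rw [Matrix.mul_neg, ← hd.mr, Matrix.neg_mul, neg_neg],
    by rw [Matrix.mul_neg, ← hd.mr', Matrix.neg_mul, neg_neg], hd.orth⟩
  set C := -B with hCdef
  have hC : IsIso (Rᵀ * S * R) C := hdA.iso_left hA
  have hUiso : IsIso (R'ᵀ * S * R') U := (hd.symm hA.1).iso_left hneg
  have hdim := hd.dim
  have hCA : ∀ P : F[X], aeval A P * R = R * aeval C P := aeval_intertwine hdA.mr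
  have hC1 : (1 - C).det ≠ 0 := by
    intro h0
    obtain ⟨v, hv, hv'⟩ := Matrix.exists_mulVec_eq_zero_iff.2 h0
    have h3 : (1 - A) *ᵥ (R *ᵥ v) = 0 := by
      rw [Matrix.mulVec_mulVec, Matrix.sub_mul, Matrix.one_mul, hdA.mr,
        show R - R * C = R * (1 - C) by rw [Matrix.mul_sub, Matrix.mul_one], ← Matrix.mulVec_mulVec, hv',
        Matrix.mulVec_zero]
    have h4 := congrArg (L *ᵥ ·) (Matrix.eq_zero_of_mulVec_eq_zero hA1 h3)
    simp only [Matrix.mulVec_mulVec, hdA.lr, Matrix.one_mulVec, Matrix.mulVec_zero] at h4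
    exact hv h4
  have hC1' : (1 + C).det ≠ 0 := by rw [hCdef, ← sub_eq_add_neg]; exact hB
  have hn : Even n := even_dim h2 hC hC1 hC1'
  obtain ⟨P, e, w, H⟩ := exists_factors p hC hC1 hC1'
  have hceven : Even c := by
    obtain ⟨r, hr⟩ := hn
    exact ⟨4 - r, by omega⟩
  have hnil : (U - 1) ^ c = 0 := KnownA.pow_eq_zero_of_nilpotent hU
  have hUc : ∀ k, c ≤ k + 1 → (U - 1) ^ k = 0 := by
    intro k hk
    rcases Nat.eq_zero_or_pos c with hc0 | hc0
    · subst hc0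
      exact Subsingleton.elim _ _
    · exact pow_eq_zero_of_le (show c - 1 ≤ k by omega) (pow_pred_eq_zero_of_even h2 hUiso hU hceven hc0)
  have finish : ∀ m b, Even m → (∀ f ∈ P, f ∣ X ^ m - 1 ∧ e f ≤ p ^ b) → (U - 1) ^ p ^ b = 0 →
      A ^ (m * p ^ b) = 1 := by
    intro m b hm hP hUb
    refine (hdA.pow _).eq_one_iff.2 ⟨H.ann m b hP, ?_⟩
    rw [(hm.mul_right _).neg_pow, mul_comm, pow_mul, (pow_eq_one_iff_nil p U b).2 hUb, one_pow]
  have evenpm : Even (q - 1) ∧ Even (q + 1) := ⟨even_iff_two_dvd.2 e1, even_iff_two_dvd.2 e2⟩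
  by_cases h34 : ∃ f ∈ P, 3 ≤ w f
  · obtain ⟨f, hf, hwf⟩ := h34
    have hw1 := H.weight_one hf
    have hef : e f = 1 := by
      have := H.one_le f hf
      nlinarith
    rw [hef, one_mul] at hw1
    have hother : ∀ g ∈ P, ¬ Factors.SameOrbit f g → w f = 3 ∧ e g = 1 ∧ w g = 1 := by
      intro g hg hne
      have h := H.weight_two hf hg hne
      rw [hef, one_mul] at h
      have h1 : 1 ≤ e g * w g := Nat.mul_pos (H.one_le g hg) (H.kind g hg).1
      have h3 : e g * w g = 1 := by omega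
      exact ⟨by omega, Nat.eq_one_of_mul_eq_one_right h3, Nat.eq_one_of_mul_eq_one_left h3⟩
    have he : ∀ g ∈ P, e g ≤ p ^ 0 := by
      intro g hg
      rw [pow_zero]
      by_cases hs : Factors.SameOrbit f g
      · rw [H.e_eq_of_sameOrbit hf hs, hef]
      · exact (hother g hg hs).2.1.le
    have hU0 : (U - 1) ^ p ^ 0 = 0 := hUc _ (by rw [pow_zero]; omega)
    rcases Nat.lt_or_ge (w f) 4 with hw4 | hw4
    · have hw3 : w f = 3 := by omega
      have main : ∀ T T', f ∣ X ^ T - 1 → 0 < T → T ∣ T' → (q + 1 ∣ T') → (q - 1 ∣ T') → Even T' →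
          A ^ T' = 1 := by
        intro T T' hfT hT hTT hp1 hm1 hev
        have h := finish T' 0 hev (fun g hg => ⟨?_, he g hg⟩) hU0
        · rwa [pow_zero, mul_one] at h
        by_cases hs : Factors.SameOrbit f g
        · exact dvd_X_pow_sub_one_trans (H.dvd_of_sameOrbit hf hs hT hfT) hTT
        obtain ⟨-, -, hg1⟩ := hother g hg hs
        rcases (H.kind g hg).2 with ⟨-, -, hd'⟩ | ⟨-, -, hd'⟩ <;> rw [hg1, pow_one] at hd'
        · exact dvd_X_pow_sub_one_trans hd' hp1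
        · exact dvd_X_pow_sub_one_trans hd' hm1
      rcases (H.kind f hf).2 with ⟨-, -, hd'⟩ | ⟨-, -, hd'⟩ <;> rw [hw3, ← hqdef] at hd'
      · exact ⟨_, Or.inr (Or.inl rfl), main _ _ hd' (by omega) (Nat.dvd_lcm_left _ _)
          (d4.trans (Nat.dvd_lcm_left _ _)) (Nat.dvd_lcm_right _ _)
          (even_iff_two_dvd.2 (e1.trans (Nat.dvd_lcm_right _ _)))⟩
      · exact ⟨_, Or.inl rfl, main _ _ hd' pq3 (Nat.dvd_lcm_left _ _) (Nat.dvd_lcm_right _ _)
          (d3.trans (Nat.dvd_lcm_left _ _)) (even_iff_two_dvd.2 (e2.trans (Nat.dvd_lcm_right _ _)))⟩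
    have hwf4 : w f = 4 := by omega
    have hall : ∀ g ∈ P, Factors.SameOrbit f g := fun g hg => by
      by_contra hne
      have := (hother g hg hne).1
      omega
    refine ⟨_, Or.inr (Or.inr (Or.inl rfl)), ?_⟩
    have hqo : Odd (q ^ 4) := hq.pow
    rcases (H.kind f hf).2 with ⟨-, -, hd'⟩ | ⟨hne, hdeg, -⟩
    · rw [hwf4, ← hqdef] at hd'
      have h := finish (q ^ 4 + 1) 0 hqo.add_one
        (fun g hg => ⟨H.dvd_of_sameOrbit hf (hall g hg) (by omega) hd', he g hg⟩) hU0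
      rw [pow_zero, mul_one] at h
      exact orderOf_dvd_iff_pow_eq_one.1
        ((dvd_two_of_plus h2 hq hA hS h).trans ((e1.trans d1).trans (Nat.dvd_lcm_left _ _)))
    · rw [hwf4] at hdeg
      have hfi := H.irr f hf
      have hfm := H.monic f hf
      have hf0 := H.coeff f hf
      have hdvd : f * revM f ∣ minpoly F A := by
        have hμ : minpoly F C ∣ minpoly F A := minpoly.dvd F C (by
          have h3 := congrArg (L * ·) (hCA (minpoly F A))
          simp only [minpoly.aeval, Matrix.zero_mul, Matrix.mul_zero, ← Matrix.mul_assoc, hdA.lr,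
            Matrix.one_mul] at h3
          exact h3.symm)
        refine dvd_trans ?_ hμ
        refine (hfi.coprime_iff_not_dvd.2 fun h => hne ?_).mul_dvd ((dvd_pow_self f (by
          rw [hef]; norm_num)).trans (H.dvd f hf)) ?_
        · exact (eq_of_monic_of_associated (revM_monic hf0) hfm
            (hfi.associated_of_dvd (irreducible_revM hfi hf0) h).symm)
        · exact (dvd_pow_self _ (by rw [(H.rev f hf).2, hef]; norm_num)).trans (H.dvd _ (H.rev f hf).1)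
      have hchar : A.charpoly = f * revM f :=
        Polynomial.eq_of_monic_of_dvd_of_natDegree_le (hfm.mul (revM_monic hf0)) A.charpoly_monic
          (hdvd.trans A.minpoly_dvd_charpoly)
          (by rw [A.charpoly_natDegree_eq_dim, Fintype.card_fin,
            natDegree_mul hfi.ne_zero (revM_monic hf0).ne_zero, natDegree_revM hf0, hdeg])
      rw [show (1 - A).det = (f * revM f).eval 1 by rw [← hchar, Matrix.eval_charpoly, map_one],
        eval_mul, revM, eval_mul, eval_C, eval_one_reverse] at hsq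
      have hev1 : f.eval 1 ≠ 0 := fun h0 => hA1 (by
        rw [show (1 - A).det = (f * revM f).eval 1 by rw [← hchar, Matrix.eval_charpoly, map_one], eval_mul, h0,
          zero_mul])
      have hsq0 : IsSquare (f.eval 0) := by
        rw [← Polynomial.coeff_zero_eq_eval_zero]
        obtain ⟨t, ht⟩ := hsq
        exact ⟨f.eval 1 / t, by
          have ht0 : t ≠ 0 := by
            rintro rfl
            simp [hev1, hf0] at ht
          field_simp at ht ⊢
          linear_combination -ht⟩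
      have h := pow_half_of_isSquare hfi hfm hq (by rwa [← Polynomial.coeff_zero_eq_eval_zero]) hsq0
      rw [hdeg, map_zero, zero_sub, ← hqdef, heven.neg_pow] at h
      have hf1 : f ∣ X ^ ((q ^ 4 - 1) / 2) - 1 := by
        haveI := Fact.mk hfi
        refine AdjoinRoot.mk_eq_zero.1 ?_
        rw [map_sub, map_pow, AdjoinRoot.mk_X, map_one, h, sub_self]
      have h' := finish ((q ^ 4 - 1) / 2) 0 heven
        (fun g hg => ⟨H.dvd_of_sameOrbit hf (hall g hg) hpos hf1, he g hg⟩) hU0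
      rw [pow_zero, mul_one] at h'
      obtain ⟨j, hj⟩ := dT
      rw [hj, pow_mul, h', one_pow]
  push Not at h34
  have hdiv : ∀ g ∈ P, (w g = 1 ∧ (g ∣ X ^ (q - 1) - 1 ∨ g ∣ X ^ (q + 1) - 1)) ∨
      (w g = 2 ∧ (g ∣ X ^ (q ^ 2 - 1) - 1 ∨ (revM g = g ∧ g ∣ X ^ (q ^ 2 + 1) - 1))) := by
    intro g hg
    obtain ⟨h0, hk⟩ := H.kind g hg
    have := h34 g hg
    rcases (show w g = 1 ∨ w g = 2 by omega) with hw | hw <;> rcases hk with ⟨hs, -, hd'⟩ | ⟨-, -, hd'⟩ <;>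
      rw [hw, ← hqdef] at hd'
    · exact Or.inl ⟨hw, Or.inr (by rwa [pow_one] at hd')⟩
    · exact Or.inl ⟨hw, Or.inl (by rwa [pow_one] at hd')⟩
    · exact Or.inr ⟨hw, Or.inr ⟨hs, hd'⟩⟩
    · exact Or.inr ⟨hw, Or.inl hd'⟩
  by_cases hsmall : (∀ g ∈ P, e g ≤ p ^ 1) ∧ (U - 1) ^ p ^ 1 = 0
  · obtain ⟨hep, hUp⟩ := hsmall
    have inT : ∀ g ∈ P, g ∣ X ^ Nat.lcm (q ^ 2 - 1) (q ^ 2 + 1) - 1 := by
      intro g hg
      rcases hdiv g hg with ⟨-, h | h⟩ | ⟨-, h | ⟨-, h⟩⟩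
      · exact dvd_X_pow_sub_one_trans h (d1.trans (Nat.dvd_lcm_left _ _))
      · exact dvd_X_pow_sub_one_trans h (d2.trans (Nat.dvd_lcm_left _ _))
      · exact dvd_X_pow_sub_one_trans h (Nat.dvd_lcm_left _ _)
      · exact dvd_X_pow_sub_one_trans h (Nat.dvd_lcm_right _ _)
    by_cases hone : (∀ g ∈ P, e g ≤ 1) ∧ U = 1
    · refine ⟨_, Or.inr (Or.inr (Or.inl rfl)), ?_⟩
      have h := finish _ 0 (even_iff_two_dvd.2 ((e1.trans d1).trans (Nat.dvd_lcm_left _ _)))
        (fun g hg => ⟨inT g hg, by rw [pow_zero]; exact hone.1 g hg⟩) (by rw [hone.2, pow_zero, pow_one, sub_self])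
      rwa [pow_zero, mul_one] at h
    by_cases hself : ∃ f ∈ P, w f = 2 ∧ revM f = f ∧ f ∣ X ^ (q ^ 2 + 1) - 1
    · obtain ⟨f, hf, hwf, hrf, hdf⟩ := hself
      have hwe := H.weight_one hf
      rw [hwf] at hwe
      have hef := H.one_le f hf
      by_cases hoth : ∀ g ∈ P, g = f
      · refine ⟨p * Nat.lcm (q ^ 2 + 1) (q - 1), Or.inr (Or.inr (Or.inr (Or.inl rfl))), ?_⟩
        rw [mul_comm p, ← pow_one p]
        refine finish _ 1 (even_iff_two_dvd.2 (e1.trans (Nat.dvd_lcm_right _ _))) (fun g hg => ⟨?_, hep g hg⟩) hUp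
        rw [hoth g hg]
        exact dvd_X_pow_sub_one_trans hdf (Nat.dvd_lcm_left _ _)
      push Not at hoth
      obtain ⟨g, hg, hgf⟩ := hoth
      have hso : ∀ x, x ≠ f → ¬ Factors.SameOrbit f x := fun x hx h => by
        rcases h with h | h
        · exact hx h
        · exact hx (h.trans hrf)
      have hw2 := H.weight_two hf hg (hso g hgf)
      rw [hwf] at hw2
      have hge := H.one_le g hg
      have hgw := (H.kind g hg).1
      have hgp : 1 ≤ e g * w g := Nat.mul_pos hge hgw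
      have hef1 : e f = 1 := by omega
      -- some other factor or the eigenvalue `-1` is repeated
      by_cases hU1 : U = 1
      · obtain ⟨k, hk, hek⟩ : ∃ k ∈ P, 1 < e k := by
          by_contra hcon
          push Not at hcon
          exact hone ⟨hcon, hU1⟩
        have hkf : k ≠ f := by rintro rfl; omega
        have hwk := H.weight_two hf hk (hso k hkf)
        rw [hwf, hef1] at hwk
        have hkw := (H.kind k hk).1
        have hk2 : e k ≤ e k * w k := Nat.le_mul_of_pos_right _ hkw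
        have hkw1 : w k = 1 := by
          by_contra hne
          have : e k * 2 ≤ e k * w k := Nat.mul_le_mul_left _ (by omega)
          omega
        have hall : ∀ x ∈ P, x = f ∨ Factors.SameOrbit k x := by
          intro x hx
          by_contra hcon
          push Not at hcon
          have hw3 := H.weight_three hf hk hx (hso k hkf) (hso x hcon.1) hcon.2
          have : 1 ≤ e x * w x := Nat.mul_pos (H.one_le x hx) (H.kind x hx).1
          rw [hwf, hef1, hkw1] at hw3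
          omega
        rcases (H.kind k hk).2 with ⟨-, -, hd'⟩ | ⟨-, -, hd'⟩ <;> rw [hkw1, ← hqdef, pow_one] at hd'
        · refine ⟨p * Nat.lcm (q ^ 2 + 1) (q + 1), Or.inr (Or.inr (Or.inr (Or.inr (Or.inl rfl)))), ?_⟩
          rw [mul_comm p, ← pow_one p]
          refine finish _ 1 (even_iff_two_dvd.2 (e2.trans (Nat.dvd_lcm_right _ _))) (fun x hx => ⟨?_, hep x hx⟩) hUp
          rcases hall x hx with rfl | hso'
          · exact dvd_X_pow_sub_one_trans hdf (Nat.dvd_lcm_left _ _)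
          · exact dvd_X_pow_sub_one_trans (H.dvd_of_sameOrbit hk hso' (by omega) hd') (Nat.dvd_lcm_right _ _)
        · refine ⟨p * Nat.lcm (q ^ 2 + 1) (q - 1), Or.inr (Or.inr (Or.inr (Or.inl rfl))), ?_⟩
          rw [mul_comm p, ← pow_one p]
          refine finish _ 1 (even_iff_two_dvd.2 (e1.trans (Nat.dvd_lcm_right _ _))) (fun x hx => ⟨?_, hep x hx⟩) hUp
          rcases hall x hx with rfl | hso'
          · exact dvd_X_pow_sub_one_trans hdf (Nat.dvd_lcm_left _ _)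
          · exact dvd_X_pow_sub_one_trans (H.dvd_of_sameOrbit hk hso' pq1 hd') (Nat.dvd_lcm_right _ _)
      · exfalso
        have : 4 ≤ c := by
          by_contra hlt
          obtain ⟨r, hr⟩ := hceven
          exact hU1 (sub_eq_zero.1 (by simpa using hUc 1 (by omega)))
        omega
    refine ⟨p * (q ^ 2 - 1), Or.inr (Or.inr (Or.inr (Or.inr (Or.inr (Or.inl rfl))))), ?_⟩
    rw [mul_comm p, ← pow_one p]
    refine finish _ 1 (even_iff_two_dvd.2 (e1.trans d1)) (fun g hg => ⟨?_, hep g hg⟩) hUp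
    rcases hdiv g hg with ⟨-, h | h⟩ | ⟨hw, h | ⟨hr, h⟩⟩
    · exact dvd_X_pow_sub_one_trans h d1
    · exact dvd_X_pow_sub_one_trans h d2
    · exact h
    · exact absurd ⟨g, hg, hw, hr, h⟩ hself
  -- a Jordan block longer than `p`
  have hP9 : ∀ g ∈ P, e g ≤ p ^ 2 := fun g hg => by
    have h1 := H.weight_one hg
    have h3 : e g ≤ e g * w g := Nat.le_mul_of_pos_right _ (H.kind g hg).1
    nlinarith
  have hU9 : (U - 1) ^ p ^ 2 = 0 := hUc _ (by nlinarith)
  by_cases hep : ∀ g ∈ P, e g ≤ p ^ 1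
  · have hc6 : p + 1 < c := by
      by_contra hle
      exact hsmall ⟨hep, hUc _ (by rw [pow_one]; omega)⟩
    obtain ⟨r, hr⟩ := hceven
    rcases (show c = 6 ∨ c = 8 by omega) with hc | hc
    · have hp' : p = 3 := by
        have : p ≠ 4 := by intro h; rw [h] at hp; norm_num at hp
        omega
      by_cases hne : ∃ f, f ∈ P
      · obtain ⟨f, hf⟩ := hne
        have hw := H.weight_one hf
        have hp1 : 1 ≤ e f * w f := Nat.mul_pos (H.one_le f hf) (H.kind f hf).1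
        have hall : ∀ g ∈ P, Factors.SameOrbit f g := fun g hg => by
          by_contra hno
          have := H.weight_two hf hg hno
          have : 1 ≤ e g * w g := Nat.mul_pos (H.one_le g hg) (H.kind g hg).1
          omega
        have hw1 : w f = 1 := Nat.eq_one_of_mul_eq_one_left (show e f * w f = 1 by omega)
        rcases (H.kind f hf).2 with ⟨-, -, hd'⟩ | ⟨-, -, hd'⟩ <;> rw [hw1, ← hqdef, pow_one] at hd'
        · refine ⟨p ^ 2 * (q + 1), Or.inr (Or.inr (Or.inr (Or.inr (Or.inr (Or.inr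
            (Or.inl ⟨hp', Or.inr rfl⟩)))))), ?_⟩
          rw [mul_comm]
          exact finish _ 2 evenpm.2
            (fun g hg => ⟨H.dvd_of_sameOrbit hf (hall g hg) (by omega) hd', hP9 g hg⟩) hU9
        · refine ⟨p ^ 2 * (q - 1), Or.inr (Or.inr (Or.inr (Or.inr (Or.inr (Or.inr
            (Or.inl ⟨hp', Or.inl rfl⟩)))))), ?_⟩
          rw [mul_comm]
          exact finish _ 2 evenpm.1
            (fun g hg => ⟨H.dvd_of_sameOrbit hf (hall g hg) pq1 hd', hP9 g hg⟩) hU9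
      · refine ⟨p ^ 2 * (q - 1), Or.inr (Or.inr (Or.inr (Or.inr (Or.inr (Or.inr
          (Or.inl ⟨hp', Or.inl rfl⟩)))))), ?_⟩
        rw [mul_comm]
        exact finish _ 2 evenpm.1 (fun g hg => absurd ⟨g, hg⟩ hne) hU9
    · have hp' : p ≤ 5 := by
        have : p ≠ 6 := by intro h; rw [h] at hp; norm_num at hp
        omega
      refine ⟨p ^ 2 * 2, Or.inr (Or.inr (Or.inr (Or.inr (Or.inr (Or.inr (Or.inr ⟨hp', rfl⟩)))))), ?_⟩
      rw [mul_comm]
      refine finish _ 2 even_two (fun g hg => ?_) hU9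
      have := H.weight_one hg
      have : 1 ≤ e g * w g := Nat.mul_pos (H.one_le g hg) (H.kind g hg).1
      omega
  push Not at hep
  obtain ⟨g, hg, hgp⟩ := hep
  rw [pow_one] at hgp
  have hw := H.weight_one hg
  have hgw := (H.kind g hg).1
  have hle : e g ≤ e g * w g := Nat.le_mul_of_pos_right _ hgw
  have hp' : p = 3 := by omega
  have hw1 : w g = 1 := by
    by_contra hne
    have : e g * 2 ≤ e g * w g := Nat.mul_le_mul_left _ (by omega)
    omega
  have hall : ∀ x ∈ P, Factors.SameOrbit g x := fun x hx => by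
    by_contra hno
    have := H.weight_two hg hx hno
    have : 1 ≤ e x * w x := Nat.mul_pos (H.one_le x hx) (H.kind x hx).1
    omega
  rcases (H.kind g hg).2 with ⟨-, -, hd'⟩ | ⟨-, -, hd'⟩ <;> rw [hw1, ← hqdef, pow_one] at hd'
  · refine ⟨p ^ 2 * (q + 1), Or.inr (Or.inr (Or.inr (Or.inr (Or.inr (Or.inr
      (Or.inl ⟨hp', Or.inr rfl⟩)))))), ?_⟩
    rw [mul_comm]
    exact finish _ 2 evenpm.2 (fun x hx => ⟨H.dvd_of_sameOrbit hg (hall x hx) (by omega) hd', hP9 x hx⟩) hU9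
  · refine ⟨p ^ 2 * (q - 1), Or.inr (Or.inr (Or.inr (Or.inr (Or.inr (Or.inr
      (Or.inl ⟨hp', Or.inl rfl⟩)))))), ?_⟩
    rw [mul_comm]
    exact finish _ 2 evenpm.1 (fun x hx => ⟨H.dvd_of_sameOrbit hg (hall x hx) pq1 hd', hP9 x hx⟩) hU9

end CfsgLib.KnownB.O9Spec
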