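import Cfsg.Agent.Lib.KnownB.O9Spec.Group

/-!
Exchanging the data of `Ω₉` and of `V : Ω₈⁻`.
-/

set_option autoImplicit false
set_option linter.unusedSectionVars false

namespace CfsgLib.KnownB.O9Spec

open Polynomial Matrix

universe u

variable {F : Type u} [Field F] [Fintype F]

theorem orderOf_eq_of_nil (p : ℕ) [Fact p.Prime] [CharP F p] {c : ℕ} {U : Matrix (Fin c) (Fin c) F} {b d : ℕ}
    (h1 : (U - 1) ^ d = 0) (h2 : (U - 1) ^ (d - 1) ≠ 0) (hle : d ≤ p ^ (b + 1)) (hlt : p ^ b < d) :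
    orderOf U = p ^ (b + 1) :=
  orderOf_eq_prime_pow (fun h => h2 (pow_eq_zero_of_le (by omega) ((pow_eq_one_iff_nil p U b).1 h)))
    ((pow_eq_one_iff_nil p U (b + 1)).2 (pow_eq_zero_of_le hle h1))

theorem nat_pow_two_le {p b : ℕ} (hp : 3 ≤ p) : p ^ b + 2 ≤ p ^ (b + 1) := by
  rw [pow_succ]
  nlinarith [Nat.one_le_pow b p (by omega)]

theorem spec9_of_spec8 (p : ℕ) [Fact p.Prime] [CharP F p] (hp3 : 3 ≤ p) (h2 : (2 : F) ≠ 0) {m : ℕ}
    (h : Spec8 F p m) : Spec9 F m := by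
  have hp := (Fact.out : p.Prime)
  obtain ⟨a, c, S, A, T, U, hac, hA, hU, hn, -, hm⟩ := h
  rcases hm with rfl | ⟨rfl, b, hb, hdvd, hne⟩
  · obtain ⟨R, L, R', L', hd, -⟩ := exists_dec_blk T U (1 : Matrix (Fin 1) (Fin 1) F) 1
    refine ⟨a, c + 1, S, A, blk T 1, blk U 1, by omega, hA,
      hU.blk (IsIso.one transpose_one isUnit_one), ?_, rfl.trans ?_⟩
    · obtain ⟨k, hk⟩ := hn
      refine ⟨k + 1, ?_⟩
      rw [blk_sub_one, blk_pow, blk_eq_zero_iff, sub_self, zero_pow k.succ_ne_zero, pow_succ, hk, zero_mul]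
      exact ⟨rfl, rfl⟩
    · rw [hd.orderOf_eq, orderOf_one, Nat.lcm_one_right]
  have hc : p ^ b ≤ c := by
    by_contra hlt
    exact hne (pow_eq_zero_of_le (by omega) (KnownA.pow_eq_zero_of_nilpotent hn))
  have hceven : Even c := by
    obtain ⟨r, hr⟩ := hA.2.2.1
    exact ⟨4 - r, by omega⟩
  have hpb : Odd (p ^ b) := (hp.odd_of_ne_two (by omega)).pow
  have hlt : p ^ b + 2 ≤ c + 1 := by
    obtain ⟨r, hr⟩ := hceven
    obtain ⟨i, hi⟩ := hpb
    omega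
  obtain ⟨T', U', hU', h1, h3, -⟩ := exists_pad (F := F) h2 (hpb.add_even even_two) hlt one_ne_zero
  refine ⟨a, c + 1, S, A, T', U', by omega, hA, hU', ⟨_, h1⟩, ?_⟩
  rw [orderOf_eq_of_nil p h1 h3 (nat_pow_two_le hp3) (by omega), hb,
    lcm_prime_pow_succ hp hA.1.isOfFinOrder.orderOf_pos.ne' hdvd]

/-- Data for `Ω₉` outside a plus eight-space without fixed vectors give data for `V : Ω₈⁻`. -/
theorem spec8_of_data (p : ℕ) [Fact p.Prime] [CharP F p] (hp3 : 3 ≤ p) (h2 : (2 : F) ≠ 0) {a c : ℕ}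
    {S A : Matrix (Fin a) (Fin a) F} {U : Matrix (Fin c) (Fin c) F} (hac : a + c = 9) (hA : Good S A)
    (hn : IsNilpotent (U - 1)) (hc1 : c = 1 → ¬ IsSquare S.det) :
    Spec8 F p (Nat.lcm (orderOf A) (orderOf U)) := by
  have hp := (Fact.out : p.Prime)
  have hcodd : Odd c := by
    obtain ⟨r, hr⟩ := hA.2.2.1
    exact ⟨4 - r, by omega⟩
  have hS0 := hA.1.det_ne
  obtain ⟨ν, hν⟩ := FiniteField.exists_nonsquare (F := F) (fun hc => h2 (by
    haveI := ringChar.of_eq hc; exact CharTwo.two_eq_zero))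
  have hν0 : ν ≠ 0 := fun h => hν (h ▸ IsSquare.zero)
  have hk : ∀ k, a + k = 8 → ∀ T' : Matrix (Fin k) (Fin k) F, (0 < k → T'.det = ν / S.det) →
      ¬ IsSquare (S.det * T'.det) := by
    intro k hk T' hT'
    rcases Nat.eq_zero_or_pos k with rfl | hk0
    · rw [det_isEmpty (A := T'), mul_one]
      exact hc1 (by omega)
    · rwa [hT' hk0, mul_div_cancel₀ _ hS0]
  obtain ⟨b, hb⟩ := exists_orderOf_unipotent p hn
  by_cases hdvd : p ^ b ∣ orderOf A
  · obtain ⟨T', hT', hdet⟩ := exists_filler (F := F) (k := c - 1) (div_ne_zero hν0 hS0)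
    refine ⟨a, c - 1, S, A, T', 1, by have := hcodd.pos; omega, hA, hT', ⟨1, by simp⟩,
      hk _ (by have := hcodd.pos; omega) _ hdet, Or.inl ?_⟩
    rw [hb, orderOf_one, Nat.lcm_one_right]
    exact Nat.dvd_antisymm (Nat.lcm_dvd dvd_rfl hdvd) (Nat.dvd_lcm_left _ _)
  obtain ⟨e, rfl⟩ : ∃ e, b = e + 1 := Nat.exists_eq_succ_of_ne_zero (by
    rintro rfl
    exact hdvd (by rw [pow_zero]; exact one_dvd _))
  have hne : (U - 1) ^ p ^ e ≠ 0 := fun h0 => by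
    have h1 := (pow_eq_one_iff_nil p U e).2 h0
    have h3 := Nat.le_of_dvd (pow_pos hp.pos e) (hb ▸ orderOf_dvd_of_pow_eq_one h1)
    exact absurd h3 (not_le.2 (Nat.pow_lt_pow_right hp.one_lt e.lt_succ_self))
  have hlt : p ^ e < c := by
    by_contra hle
    exact hne (pow_eq_zero_of_le (by omega) (KnownA.pow_eq_zero_of_nilpotent hn))
  have hpe : Odd (p ^ e) := (hp.odd_of_ne_two (by omega)).pow
  have hlt2 : p ^ e < c - 1 := by
    obtain ⟨r, hr⟩ := hcodd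
    obtain ⟨i, hi⟩ := hpe
    omega
  obtain ⟨T', U', hU', h1, h3, hdet⟩ := exists_pad (F := F) h2 hpe hlt2.le (div_ne_zero hν0 hS0)
  have hord : orderOf U' = p ^ e := by
    rcases Nat.eq_zero_or_pos e with rfl | he
    · rw [pow_zero, pow_one, sub_eq_zero] at h1
      rw [pow_zero, h1, orderOf_one]
    · obtain ⟨e', rfl⟩ : ∃ e', e = e' + 1 := ⟨e - 1, by omega⟩
      exact orderOf_eq_of_nil p h1 h3 le_rfl (Nat.pow_lt_pow_right hp.one_lt e'.lt_succ_self)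
  refine ⟨a, c - 1, S, A, T', U', by omega, hA, hU', ⟨_, h1⟩, hk _ (by omega) _ (fun _ => hdet hlt2),
    Or.inr ⟨?_, e, hord, hdvd, h3⟩⟩
  rw [hb, hord, lcm_prime_pow_succ hp hA.1.isOfFinOrder.orderOf_pos.ne' hdvd]

end CfsgLib.KnownB.O9Spec
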