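import Cfsg.Agent.Lib.KnownB.O9Spec.Unip

/-!
Element orders of `PΩ₉(q)` and of `V : Ω₈⁻(q)` in terms of block data.
-/

set_option autoImplicit false
set_option linter.unusedSectionVars false

namespace CfsgLib.KnownB.O9Spec

open Polynomial Matrix QuadraticMap CfsgLib.Geometry CfsgLib.KnownB.PrimeGraph

universe u

variable {F : Type u} [Field F] [Fintype F]

/-- An isometry without eigenvalue one of trivial spinor norm and Dickson invariant. -/
def Good {a : ℕ} (S A : Matrix (Fin a) (Fin a) F) : Prop :=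
  IsIso S A ∧ (1 - A).det ≠ 0 ∧ Even a ∧ IsSquare (S.det * (1 - A).det)

/-- The data of an element of `Ω₉`. -/
def Spec9 (F : Type u) [Field F] (m : ℕ) : Prop :=
  ∃ (a c : ℕ) (S A : Matrix (Fin a) (Fin a) F) (T U : Matrix (Fin c) (Fin c) F),
    a + c = 9 ∧ Good S A ∧ IsIso T U ∧ IsNilpotent (U - 1) ∧ m = Nat.lcm (orderOf A) (orderOf U)

/-- The data of an element of `V : Ω₈⁻`. -/
def Spec8 (F : Type u) [Field F] (p m : ℕ) : Prop :=
  ∃ (a c : ℕ) (S A : Matrix (Fin a) (Fin a) F) (T U : Matrix (Fin c) (Fin c) F),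
    a + c = 8 ∧ Good S A ∧ IsIso T U ∧ IsNilpotent (U - 1) ∧ ¬ IsSquare (S.det * T.det) ∧
      (m = Nat.lcm (orderOf A) (orderOf U) ∨ (m = p * Nat.lcm (orderOf A) (orderOf U) ∧
        ∃ b, orderOf U = p ^ b ∧ ¬ p ^ (b + 1) ∣ orderOf A ∧ (U - 1) ^ (p ^ b - 1) ≠ 0))

theorem exists_orderOf_unipotent (p : ℕ) [Fact p.Prime] [CharP F p] {c : ℕ} {U : Matrix (Fin c) (Fin c) F}
    (hU : IsNilpotent (U - 1)) : ∃ b, orderOf U = p ^ b := by
  have hp := (Fact.out : p.Prime)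
  obtain ⟨k, hk⟩ := hU
  obtain ⟨b, -, hb⟩ := (Nat.dvd_prime_pow hp).1 (orderOf_dvd_of_pow_eq_one ((pow_eq_one_iff_nil p U k).2
    (pow_eq_zero_of_le (Nat.lt_pow_self hp.one_lt).le hk)))
  exact ⟨b, hb⟩

/-- Membership in the derived group from coordinates of the moved space. -/
theorem mem_iff_of_restrict {N : ℕ} (h2 : (2 : F) ≠ 0) {S : Matrix (Fin N) (Fin N) F} (hS : Sᵀ = S)
    (hSu : IsUnit S) (hN : 2 ≤ N) (g : orth (symQuad S)) {d : ℕ} {R : Matrix (Fin N) (Fin d) F}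
    {L : Matrix (Fin d) (Fin N) F} {B : Matrix (Fin d) (Fin d) F} (hLR : L * R = 1)
    (hgR : orthMat _ g * R = R * B) (hkill : 1 - orthMat _ g = (1 - orthMat _ g) * (R * L))
    (hB : (1 - B).det ≠ 0) :
    g ∈ commutator (orth (symQuad S)) ↔ IsSquare ((Rᵀ * S * R).det * (1 - B).det) ∧ Even d := by
  classical
  refine ⟨fun hg => square_of_restrict h2 hS hSu hN hg hLR hgR hkill hB, fun hsq => ?_⟩
  have hQ := symQuad_nondeg h2 hS hSu
  rw [← ker_orthInvariant hQ (by rw [Module.finrank_fin_fun]; exact hN) h2 (reflGroup_eq_orth_of_two_ne hQ h2),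
    MonoidHom.mem_ker]
  set M := orthMat _ g with hM
  set e := (g : (Fin N → F) ≃ₗ[F] (Fin N → F)) with he
  have hkey : R * (1 - B) = (1 - M) * R := by
    rw [Matrix.mul_sub, Matrix.sub_mul, Matrix.mul_one, Matrix.one_mul, hgR]
  have hmov : ∀ v, v - e v = (1 - M) *ᵥ v := fun v => by
    rw [Matrix.sub_mulVec, Matrix.one_mulVec, hM, orthMat_mulVec]
  have hinj : Function.Injective (Matrix.mulVecLin (R * (1 - B))) := by
    rw [injective_iff_map_eq_zero]
    intro c hc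
    rw [Matrix.mulVecLin_apply] at hc
    have h0 := congrArg (L *ᵥ ·) hc
    simp only [Matrix.mulVec_mulVec, ← Matrix.mul_assoc, hLR, Matrix.one_mul, Matrix.mulVec_zero] at h0
    exact Matrix.eq_zero_of_mulVec_eq_zero hB h0
  have hrange : movSpace e = LinearMap.range (Matrix.mulVecLin (R * (1 - B))) := by
    refine le_antisymm ?_ ?_
    · rintro _ ⟨v, rfl⟩
      refine ⟨L *ᵥ v, ?_⟩
      rw [Matrix.mulVecLin_apply, Matrix.mulVec_mulVec, hkey, Matrix.mul_assoc, ← hkill, movMap_apply, hmov]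
    · rintro _ ⟨c, rfl⟩
      refine ⟨R *ᵥ c, ?_⟩
      rw [Matrix.mulVecLin_apply, movMap_apply, hmov, Matrix.mulVec_mulVec, hkey]
  have hfr : Module.finrank F (movSpace e) = d := by
    rw [hrange, LinearMap.finrank_range_of_inj hinj, Module.finrank_fin_fun]
  have hw : ∀ i, R *ᵥ Pi.single i 1 - e (R *ᵥ Pi.single i 1) = (R * (1 - B)) *ᵥ Pi.single i 1 := fun i => by
    rw [hmov, Matrix.mulVec_mulVec, hkey]
  have hrep : IsSpinorRep (symQuad S) e ((Rᵀ * S * R).det * (1 - B).det) := by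
    refine ⟨d, fun i => R *ᵥ Pi.single i 1, ?_, hfr, ?_⟩
    · rw [show (fun i => R *ᵥ Pi.single i 1 - e (R *ᵥ Pi.single i 1)) =
        Matrix.mulVecLin (R * (1 - B)) ∘ ⇑(Pi.basisFun F (Fin d)) from funext fun i => by
          rw [hw, Function.comp_apply, Pi.basisFun_apply, Matrix.mulVecLin_apply]]
      exact (Pi.basisFun F (Fin d)).linearIndependent.map' _ (LinearMap.ker_eq_bot.2 hinj)
    · rw [← Matrix.det_mul]
      congr 1
      ext i j
      rw [Matrix.of_apply, hw, polar_symQuad h2 hS, Matrix.mulVec_mulVec, Matrix.mul_assoc, Matrix.mul_assoc]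
      simp only [mulVec_single_one]
      simp [Matrix.mul_apply (M := Rᵀ), dotProduct]
  refine Prod.ext ?_ ?_
  · show spinor (symQuad S) e = 1
    rw [spinor_eq hQ g.2 hrep, sqMk_eq_one_iff]
    exact hsq.1
  · show dicksonMul e = 1
    rw [dicksonMul, Geometry.dickson, hfr, ofAdd_eq_one]
    exact ZMod.natCast_eq_zero_iff_even.2 hsq.2

theorem mem_comm_iff_dec (p : ℕ) [Fact p.Prime] [CharP F p] {N : ℕ} (h2 : (2 : F) ≠ 0)
    {S : Matrix (Fin N) (Fin N) F} (hS : Sᵀ = S) (hSu : IsUnit S) (hN : 2 ≤ N) (g : orth (symQuad S))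
    {a c : ℕ} {R : Matrix (Fin N) (Fin a) F} {L : Matrix (Fin a) (Fin N) F} {R' : Matrix (Fin N) (Fin c) F}
    {L' : Matrix (Fin c) (Fin N) F} {B : Matrix (Fin a) (Fin a) F} {U : Matrix (Fin c) (Fin c) F}
    (hd : IsDec S (orthMat _ g) R L R' L' B U) (hB : (1 - B).det ≠ 0) (hU : IsNilpotent (U - 1)) :
    g ∈ commutator (orth (symQuad S)) ↔ IsSquare ((Rᵀ * S * R).det * (1 - B).det) ∧ Even a := by
  have hp := (Fact.out : p.Prime)
  have hp2 : p ≠ 2 := by
    rintro rfl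
    exact h2 (by exact_mod_cast (CharP.cast_eq_zero F 2))
  obtain ⟨b, hb⟩ := exists_orderOf_unipotent p hU
  have hUq : U ^ p ^ b = 1 := by rw [← hb]; exact pow_orderOf_eq_one U
  obtain ⟨r, hr⟩ := (hp.odd_of_ne_two hp2).pow (n := b)
  have hdet : (1 - B ^ p ^ b).det = (1 - B).det ^ r * (1 - B).det ^ r * (1 - B).det := by
    rw [show 1 - B ^ p ^ b = (1 - B) ^ p ^ b by
        rw [show (1 : Matrix (Fin a) (Fin a) F) - B = -(B - 1) by abel,
          Odd.neg_pow ⟨r, hr⟩, sub_one_pow_char]; abel,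
      det_pow, hr, pow_succ, two_mul, pow_add]
  have hcrit := mem_iff_of_restrict h2 hS hSu hN (g ^ p ^ b) (R := R) (L := L) (B := B ^ p ^ b) hd.lr
    (by rw [map_pow]; exact hd.pow_mr _)
    (by
      have h1 := hd.pow_mr' (p ^ b)
      rw [hUq, Matrix.mul_one] at h1
      rw [map_pow]
      rw [show R * L = 1 - R' * L' from eq_sub_of_add_eq hd.sum, Matrix.mul_sub, Matrix.mul_one,
        ← Matrix.mul_assoc _ R', Matrix.sub_mul 1 _ R', Matrix.one_mul, h1, sub_self, Matrix.zero_mul, sub_zero])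
    (by rw [hdet]; exact mul_ne_zero (mul_ne_zero (pow_ne_zero _ hB) (pow_ne_zero _ hB)) hB)
  rw [hdet, show (Rᵀ * S * R).det * ((1 - B).det ^ r * (1 - B).det ^ r * (1 - B).det) =
    (1 - B).det ^ r * (1 - B).det ^ r * ((Rᵀ * S * R).det * (1 - B).det) by ring,
    isSquare_mul_sq_iff (pow_ne_zero _ hB)] at hcrit
  rw [← hcrit, hr, pow_succ, pow_mul]
  refine ⟨fun h => mul_mem (pow_mem (pow_mem h 2) r) h, fun h => ?_⟩
  have h' := mul_mem (inv_mem (pow_mem (sq_mem_commutator (symQuad_nondeg h2 hS hSu) h2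
    (by rw [Module.finrank_fin_fun]; exact hN) g) r)) h
  rwa [inv_mul_cancel_left] at h'

/-- The block data of an element of the derived group. -/
theorem exists_data (p : ℕ) [Fact p.Prime] [CharP F p] {N : ℕ} (h2 : (2 : F) ≠ 0)
    {S : Matrix (Fin N) (Fin N) F} (hS : Sᵀ = S) (hSu : IsUnit S) (hN : 2 ≤ N) {g : orth (symQuad S)}
    (hg : g ∈ commutator (orth (symQuad S))) :
    ∃ (a c : ℕ) (R : Matrix (Fin N) (Fin a) F) (L : Matrix (Fin a) (Fin N) F)
      (R' : Matrix (Fin N) (Fin c) F) (L' : Matrix (Fin c) (Fin N) F)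
      (B : Matrix (Fin a) (Fin a) F) (U : Matrix (Fin c) (Fin c) F),
      IsDec S (orthMat _ g) R L R' L' B U ∧ Good (Rᵀ * S * R) B ∧ IsIso (R'ᵀ * S * R') U ∧
        IsNilpotent (U - 1) := by
  have hiso : IsIso S (orthMat _ g) := ⟨hS, hSu, orthMat_isometry h2 hS g⟩
  obtain ⟨a, c, R, L, R', L', B, U, hd, hB, hU⟩ := exists_fitting hiso
  obtain ⟨hsq, hev⟩ := (mem_comm_iff_dec p h2 hS hSu hN g hd hB hU).1 hg
  exact ⟨a, c, R, L, R', L', B, U, hd, ⟨hd.iso_left hiso, hB, hev, hsq⟩, (hd.symm hS).iso_left hiso, hU⟩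

theorem orderOf_orthMat {N : ℕ} {S : Matrix (Fin N) (Fin N) F} (g : orth (symQuad S)) :
    orderOf (orthMat _ g) = orderOf g :=
  orderOf_injective _ (orthMat_injective _) g

/-- The element of block data. -/
theorem exists_elem (p : ℕ) [Fact p.Prime] [CharP F p] (h2 : (2 : F) ≠ 0) {a c N : ℕ} (hN : a + c = N)
    (hN2 : 2 ≤ N) {S A : Matrix (Fin a) (Fin a) F} {T U : Matrix (Fin c) (Fin c) F} (hA : Good S A)
    (hU : IsIso T U) (hn : IsNilpotent (U - 1)) :
    ∃ S' : Matrix (Fin N) (Fin N) F, S'ᵀ = S' ∧ IsUnit S' ∧ S'.det = S.det * T.det ∧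
      ∃ g : orth (symQuad S'), g ∈ commutator (orth (symQuad S')) ∧
        orderOf g = Nat.lcm (orderOf A) (orderOf U) ∧
        ∃ R L R' L', IsDec S' (orthMat _ g) R L R' L' A U := by
  subst hN
  obtain ⟨hS, hSu, hiso⟩ := hA.1.blk hU
  obtain ⟨g, hg⟩ := exists_orth h2 hS hSu hiso
  obtain ⟨R, L, R', L', hd, hR, -⟩ := exists_dec_blk S A T U
  refine ⟨blk S T, hS, hSu, blk_det _ _, g, ?_, ?_, R, L, R', L', by rw [hg]; exact hd⟩
  · refine (mem_comm_iff_dec p h2 hS hSu hN2 g (by rw [hg]; exact hd) hA.2.1 hn).2 ?_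
    rw [hR]
    exact ⟨hA.2.2.2, hA.2.2.1⟩
  · rw [← orderOf_orthMat, hg, hd.orderOf_eq]

theorem spec9_iff (p : ℕ) [Fact p.Prime] [CharP F p] (h2 : (2 : F) ≠ 0) (m : ℕ) :
    m ∈ Set.range (orderOf : Cfsg.POmega F (Cfsg.quadFormOdd 4 F) → ℕ) ↔ Spec9 F m := by
  constructor
  · intro h
    obtain ⟨g, hg, hgm⟩ := (mem_range_pOmega_iff h2 (by norm_num)
      (S := (1 : Matrix (Fin (2 * 4 + 1)) (Fin (2 * 4 + 1)) F)) transpose_one isUnit_one m).1 h
    obtain ⟨a, c, R, L, R', L', B, U, hd, hB, hU, hn⟩ := exists_data p h2 transpose_one isUnit_one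
      (by norm_num) hg
    exact ⟨a, c, _, B, _, U, hd.dim, hB, hU, hn, by rw [← hgm, ← orderOf_orthMat, hd.orderOf_eq]⟩
  · rintro ⟨a, c, S, A, T, U, hac, hA, hU, hn, rfl⟩
    obtain ⟨S', hS, hSu, -, g, hg, hord, -⟩ :=
      exists_elem p h2 (N := 2 * 4 + 1) (by omega) (by norm_num) hA hU hn
    exact (mem_range_pOmega_iff h2 (by norm_num) hS hSu _).2 ⟨g, hg, hord⟩

section Semidirect

variable {G : Type*} [Group G] {κ : Type*} [Fintype κ] [DecidableEq κ]

/-- Element orders in a split extension by a natural module. -/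
theorem mem_range_semidirect_iff (p : ℕ) [Fact p.Prime] [CharP F p] [Finite G]
    (φ : G →* MulAut (Multiplicative (κ → F))) (M : G →* Matrix κ κ F)
    (hφ : ∀ g w, φ g (Multiplicative.ofAdd w) = Multiplicative.ofAdd (M g *ᵥ w)) (m : ℕ) :
    m ∈ Set.range (orderOf : Multiplicative (κ → F) ⋊[φ] G → ℕ) ↔
      ∃ g : G, m = orderOf g ∨
        (m = p * orderOf g ∧ ∑ i ∈ Finset.range (orderOf g), M g ^ i ≠ 0) := by
  classical
  have hp := (Fact.out : p.Prime)
  have key : ∀ (g : G) (v : κ → F), orderOf (⟨Multiplicative.ofAdd v, g⟩ : Multiplicative (κ → F) ⋊[φ] G) =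
      if (∑ i ∈ Finset.range (orderOf g), M g ^ i) *ᵥ v = 0 then orderOf g else p * orderOf g := by
    intro g v
    set k := orderOf g with hk
    set x : Multiplicative (κ → F) ⋊[φ] G := ⟨Multiplicative.ofAdd v, g⟩ with hx
    have hpow : ∀ j : ℕ, x ^ j =
        ⟨Multiplicative.ofAdd ((∑ i ∈ Finset.range j, M g ^ i) *ᵥ v), g ^ j⟩ := by
      intro j
      induction j with
      | zero => exact SemidirectProduct.ext (by simp) (by simp)
      | succ j ih =>
        rw [pow_succ, ih]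
        refine SemidirectProduct.ext ?_ (by rw [SemidirectProduct.mul_right]; exact (pow_succ g j).symm)
        rw [SemidirectProduct.mul_left]
        show Multiplicative.ofAdd _ * φ (g ^ j) (Multiplicative.ofAdd v) = _
        rw [hφ, map_pow, ← ofAdd_add, Finset.sum_range_succ, Matrix.add_mulVec]
    have hk0 : 0 < k := orderOf_pos g
    have hxk : x ^ k = SemidirectProduct.inl (Multiplicative.ofAdd ((∑ i ∈ Finset.range k, M g ^ i) *ᵥ v)) := by
      rw [hpow, hk, pow_orderOf_eq_one]; rfl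
    have hkd : k ∣ orderOf x := by
      rw [hk, orderOf_dvd_iff_pow_eq_one]
      have := congrArg SemidirectProduct.right (pow_orderOf_eq_one x)
      rwa [hpow] at this
    obtain ⟨c, hc⟩ := hkd
    have hcp : c ∣ p := by
      have hfin : x ^ (k * p) = 1 := by
        rw [pow_mul, hxk, ← map_pow, ← ofAdd_nsmul, ← Nat.cast_smul_eq_nsmul F, CharP.cast_eq_zero, zero_smul,
          ofAdd_zero, map_one]
      have := orderOf_dvd_of_pow_eq_one hfin
      rw [hc] at this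
      exact Nat.dvd_of_mul_dvd_mul_left hk0 this
    split_ifs with h0
    · refine Nat.dvd_antisymm (orderOf_dvd_of_pow_eq_one ?_) (hc ▸ Dvd.intro c rfl)
      rw [hxk, h0, ofAdd_zero, map_one]
    · rcases (Nat.dvd_prime hp).1 hcp with rfl | rfl
      · exfalso
        have h1 := pow_orderOf_eq_one x
        rw [hc, mul_one, hxk] at h1
        exact h0 (ofAdd_eq_one.1 (SemidirectProduct.inl_injective (h1.trans (map_one _).symm)))
      · rw [hc, mul_comm]
  constructor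
  · rintro ⟨⟨w, g⟩, rfl⟩
    refine ⟨g, ?_⟩
    have := key g (Multiplicative.toAdd w)
    rw [ofAdd_toAdd] at this
    rw [this]
    split_ifs with h0
    · exact Or.inl rfl
    · exact Or.inr ⟨rfl, fun h => h0 (by rw [h, Matrix.zero_mulVec])⟩
  · rintro ⟨g, rfl | ⟨rfl, hne⟩⟩
    · exact ⟨⟨Multiplicative.ofAdd 0, g⟩, by rw [key, if_pos (Matrix.mulVec_zero _)]⟩
    · obtain ⟨v, hv⟩ : ∃ v, (∑ i ∈ Finset.range (orderOf g), M g ^ i) *ᵥ v ≠ 0 := by
        by_contra hcon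
        push Not at hcon
        exact hne (Matrix.ext_iff_mulVec.2 fun x => by rw [hcon, Matrix.zero_mulVec])
      exact ⟨⟨Multiplicative.ofAdd v, g⟩, by rw [key, if_neg hv]⟩

end Semidirect

/-- When the sum of the powers of an element vanishes. -/
theorem sum_ne_zero_iff (p : ℕ) [Fact p.Prime] [CharP F p] {N a c : ℕ} {S M : Matrix (Fin N) (Fin N) F}
    {R : Matrix (Fin N) (Fin a) F} {L : Matrix (Fin a) (Fin N) F} {R' : Matrix (Fin N) (Fin c) F}
    {L' : Matrix (Fin c) (Fin N) F} {B : Matrix (Fin a) (Fin a) F} {U : Matrix (Fin c) (Fin c) F}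
    (hd : IsDec S M R L R' L' B U) (hS : IsIso S M) (hB : (1 - B).det ≠ 0) {b : ℕ} (hb : orderOf U = p ^ b) :
    ∑ i ∈ Finset.range (orderOf M), M ^ i ≠ 0 ↔ ¬ p ^ (b + 1) ∣ orderOf B ∧ (U - 1) ^ (p ^ b - 1) ≠ 0 := by
  have hp := (Fact.out : p.Prime)
  have hk := hd.orderOf_eq
  rw [hb] at hk
  obtain ⟨j, hj⟩ : p ^ b ∣ orderOf M := hk ▸ Nat.dvd_lcm_right _ _
  have hUq : U ^ p ^ b = 1 := by rw [← hb]; exact pow_orderOf_eq_one U
  have hBk : B ^ orderOf M = 1 := orderOf_dvd_iff_pow_eq_one.1 (hk ▸ Nat.dvd_lcm_left _ _)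
  rw [hd.sum_pow, sum_pow_eq_zero hB hBk, Matrix.mul_zero, Matrix.zero_mul, zero_add, hj,
    sum_pow_period hUq, geom_sum_char, ← Nat.cast_smul_eq_nsmul F, Matrix.mul_smul, Matrix.smul_mul, Ne,
    smul_eq_zero, not_or, CharP.cast_eq_zero_iff F p]
  refine and_congr (not_congr ?_) (not_congr ?_)
  · constructor
    · intro hpj
      by_contra hn
      have hB0 : orderOf B ≠ 0 := (hd.iso_left hS).isOfFinOrder.orderOf_pos.ne'
      have h1 : p ^ (b + 1) ∣ Nat.lcm (orderOf B) (p ^ b) := by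
        rw [← hk, hj, pow_succ]; exact mul_dvd_mul_left _ hpj
      have h3 := Nat.le_of_dvd (Nat.lcm_pos (Nat.pos_of_ne_zero hB0) (pow_pos hp.pos b))
        (Nat.lcm_dvd (Nat.dvd_lcm_left (orderOf B) (p ^ b)) h1)
      rw [lcm_prime_pow_succ hp hB0 hn] at h3
      nlinarith [hp.two_le, Nat.lcm_pos (Nat.pos_of_ne_zero hB0) (pow_pos hp.pos b)]
    · intro h
      have h1 : p ^ b * p ∣ p ^ b * j := by rw [← hj, hk, ← pow_succ]; exact h.trans (Nat.dvd_lcm_left _ _)
      exact Nat.dvd_of_mul_dvd_mul_left (pow_pos hp.pos b) h1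
  · refine ⟨fun h => ?_, fun h => by rw [h, Matrix.mul_zero, Matrix.zero_mul]⟩
    have h1 := congrArg (fun X => L' * X * R') h
    simp only [Matrix.mul_zero, Matrix.zero_mul] at h1
    rwa [← Matrix.mul_assoc, ← Matrix.mul_assoc, hd.lr', Matrix.one_mul, Matrix.mul_assoc, hd.lr',
      Matrix.mul_one] at h1

/-- The minus form is equivalent to any symmetric matrix of non-square determinant. -/
theorem nonempty_formSim_minus (h2 : (2 : F) ≠ 0) {a b : F}
    (hab : ∀ z₁ z₂ : F, z₁ ^ 2 + a * z₁ * z₂ + b * z₂ ^ 2 = 0 → z₁ = 0 ∧ z₂ = 0)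
    {S : Matrix (Fin 8) (Fin 8) F} (hS : Sᵀ = S) (hSu : IsUnit S) (hns : ¬ IsSquare S.det) :
    Nonempty (FormSim (Cfsg.quadFormMinus 3 F a b) ⇑(symQuad S)) := by
  classical
  have hdet := det_minus_gram 3 a b
  have hD := (binAniso_discr hab).2 h2
  have e1 : ((-1 : F)) ^ 3 * (4 * b - a * a) = a * a - 4 * b := by ring
  rw [e1] at hdet
  have hne : (minusMat 3 F a b + (minusMat 3 F a b)ᵀ).det ≠ 0 := by
    rw [hdet]; exact fun h => hD (h ▸ IsSquare.zero)
  have g1 : ∀ {ι : Type} [Fintype ι] [DecidableEq ι] (M : Matrix ι ι F),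
      (Matrix.of fun i j => polar (matQuad M) (Pi.basisFun F ι i) (Pi.basisFun F ι j)) = M + Mᵀ := by
    intro ι _ _ M
    ext i j
    rw [Matrix.of_apply, polar_matQuad, Pi.basisFun_apply, Pi.basisFun_apply, single_one_dotProduct,
      mulVec_single_one]
    rfl
  obtain ⟨E, hE⟩ := exists_isometry_of_disc h2 (Q := matQuad (minusMat 3 F a b)) (symQuad S)
    (nondegenerate_matQuad hne) (symQuad_nondeg h2 hS hSu)
    (by rw [Module.finrank_fintype_fun_eq_card, Module.finrank_fintype_fun_eq_card]; rfl)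
    (Pi.basisFun F _) (Pi.basisFun F _)
    (by rw [g1, hdet, symQuad, g1, symQuad_gram h2 hS]; exact isSquare_mul_of_not hD hns)
  exact ⟨⟨E, 1, fun v => by rw [hE, ← coe_matQuad_minus, Units.val_one, one_mul]⟩⟩

variable (F) in
/-- The matrix of an element of `Ω`. -/
noncomputable def omegaMat {ι : Type} [Fintype ι] [DecidableEq ι] (Q : (ι → F) → F) :
    Cfsg.Omega F Q →* Matrix ι ι F :=
  (Units.coeHom (Matrix ι ι F)).comp ((Cfsg.isometryGroup F Q).subtype.comp (Cfsg.Omega F Q).subtype)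

theorem omegaMat_injective {ι : Type} [Fintype ι] [DecidableEq ι] (Q : (ι → F) → F) :
    Function.Injective (omegaMat F Q) := fun _ _ h => Subtype.ext (Subtype.ext (Units.ext h))

theorem exists_orth_of_omega {N : ℕ} (S : Matrix (Fin N) (Fin N) F)
    (g : Cfsg.Omega F ⇑(symQuad S)) :
    ∃ g' : orth (symQuad S), g' ∈ commutator (orth (symQuad S)) ∧ orthMat _ g' = omegaMat F _ g := by
  refine ⟨isomEquiv (symQuad S) g.1, (mem_Omega_iff_commutator (symQuad S) g.1).1 g.2,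
    Matrix.ext_iff_mulVec.2 fun v => ?_⟩
  rw [orthMat_mulVec, isomEquiv_apply]
  rfl

theorem exists_omega_of_orth {N : ℕ} (S : Matrix (Fin N) (Fin N) F) {g' : orth (symQuad S)}
    (hg' : g' ∈ commutator (orth (symQuad S))) :
    ∃ g : Cfsg.Omega F ⇑(symQuad S), omegaMat F _ g = orthMat _ g' := by
  refine ⟨⟨(isomEquiv (symQuad S)).symm g', (mem_Omega_iff_commutator (symQuad S) _).2
    (by rw [MulEquiv.apply_symm_apply]; exact hg')⟩, Matrix.ext_iff_mulVec.2 fun v => ?_⟩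
  rw [orthMat_mulVec]
  exact isomEquiv_symm_mulVec _ g' v

/-- Transport of the sums of powers along a similitude. -/
theorem sum_pow_transport {κ ι : Type} [Fintype ι] [DecidableEq ι] [Fintype κ] [DecidableEq κ]
    {R : (κ → F) → F} {Q : (ι → F) → F} (T : FormSim R Q) (g : Cfsg.Omega F R) (k : ℕ) :
    ∑ i ∈ Finset.range k, omegaMat F Q (T.omegaEquiv g) ^ i = 0 ↔
      ∑ i ∈ Finset.range k, omegaMat F R g ^ i = 0 := by
  have key : ∀ i v, (omegaMat F Q (T.omegaEquiv g) ^ i) *ᵥ T.equiv v =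
      T.equiv ((omegaMat F R g ^ i) *ᵥ v) := by
    intro i v
    rw [← map_pow, ← map_pow, ← map_pow]
    exact conjGL_mulVec T.equiv _ v
  constructor <;> intro h <;> refine Matrix.ext_iff_mulVec.2 fun v => ?_
  · refine T.equiv.injective ?_
    rw [Matrix.sum_mulVec, map_sum, ← Finset.sum_congr rfl fun i _ => key i v, ← Matrix.sum_mulVec, h,
      Matrix.zero_mulVec, Matrix.zero_mulVec, map_zero]
  · obtain ⟨w, rfl⟩ := T.equiv.surjective v
    rw [Matrix.sum_mulVec, Finset.sum_congr rfl fun i _ => key i w, ← map_sum, ← Matrix.sum_mulVec, h,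
      Matrix.zero_mulVec, Matrix.zero_mulVec, map_zero]

theorem spec8_iff (p : ℕ) [Fact p.Prime] [CharP F p] (h2 : (2 : F) ≠ 0) {a b : F}
    (hab : ∀ z₁ z₂ : F, z₁ ^ 2 + a * z₁ * z₂ + b * z₂ ^ 2 = 0 → z₁ = 0 ∧ z₂ = 0)
    (φ : Cfsg.Omega F (Cfsg.quadFormMinus 3 F a b) →*
      MulAut (Multiplicative (((Fin 3 ⊕ Fin 3) ⊕ Fin 2) → F)))
    (hφ : ∀ g w, φ g (Multiplicative.ofAdd w) = Multiplicative.ofAdd (omegaMat F _ g *ᵥ w)) (m : ℕ) :
    m ∈ Set.range (orderOf : Multiplicative (((Fin 3 ⊕ Fin 3) ⊕ Fin 2) → F) ⋊[φ]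
        Cfsg.Omega F (Cfsg.quadFormMinus 3 F a b) → ℕ) ↔ Spec8 F p m := by
  classical
  haveI : Finite (Cfsg.Omega F (Cfsg.quadFormMinus 3 F a b)) := Finite.of_injective _ (omegaMat_injective _)
  rw [mem_range_semidirect_iff p φ _ hφ]
  constructor
  · rintro ⟨g, hg⟩
    obtain ⟨ν, hν⟩ := FiniteField.exists_nonsquare (F := F) (fun hc => h2 (by
      haveI := ringChar.of_eq hc; exact CharTwo.two_eq_zero))
    obtain ⟨S, ⟨hS, hSu, -⟩, hdet⟩ := exists_filler (F := F) (k := 8) (fun h : ν = 0 => hν (h ▸ IsSquare.zero))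
    have hns : ¬ IsSquare S.det := by rw [hdet (by norm_num)]; exact hν
    obtain ⟨T⟩ := nonempty_formSim_minus h2 hab hS hSu hns
    obtain ⟨g', hg', hmat⟩ := exists_orth_of_omega S (T.omegaEquiv g)
    obtain ⟨x, c, R, L, R', L', B, U, hd, hB, hU, hn⟩ := exists_data p h2 hS hSu (by norm_num) hg'
    obtain ⟨t, ht, hdd⟩ := hd.det_eq hS
    have hord : orderOf g = Nat.lcm (orderOf B) (orderOf U) := by
      rw [← hd.orderOf_eq, hmat, orderOf_injective (omegaMat F ⇑(symQuad S)) (omegaMat_injective _) (T.omegaEquiv g),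
        MulEquiv.orderOf_eq]
    refine ⟨x, c, _, B, _, U, hd.dim, hB, hU, hn, by rw [hdd, isSquare_mul_sq_iff ht]; exact hns, ?_⟩
    rcases hg with h | ⟨h, hsum⟩
    · exact Or.inl (h.trans hord)
    · refine Or.inr ⟨by rw [h, hord], ?_⟩
      obtain ⟨e, he⟩ := exists_orderOf_unipotent p hn
      refine ⟨e, he, (sum_ne_zero_iff p hd ⟨hS, hSu, orthMat_isometry h2 hS g'⟩ hB.2.1 he).1 ?_⟩
      rw [hd.orderOf_eq, ← hord, hmat, Ne, sum_pow_transport T]
      exact hsum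
  · rintro ⟨x, c, S, A, T', U, hxc, hA, hU, hn, hns, hm⟩
    obtain ⟨S', hS, hSu, hdet, g', hg', hord, R, L, R', L', hd⟩ :=
      exists_elem p h2 hxc (by norm_num) hA hU hn
    obtain ⟨T⟩ := nonempty_formSim_minus h2 hab hS hSu (hdet ▸ hns)
    obtain ⟨g₀, hg₀⟩ := exists_omega_of_orth S' hg'
    obtain ⟨g, rfl⟩ := T.omegaEquiv.surjective g₀
    have hord' : orderOf g = Nat.lcm (orderOf A) (orderOf U) := by
      rw [← T.omegaEquiv.orderOf_eq, ← orderOf_injective (omegaMat F ⇑(symQuad S')) (omegaMat_injective _) (T.omegaEquiv g),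
        hg₀, orderOf_orthMat, hord]
    refine ⟨g, ?_⟩
    rcases hm with rfl | ⟨rfl, e, he, hne⟩
    · exact Or.inl hord'.symm
    · refine Or.inr ⟨by rw [hord'], ?_⟩
      rw [Ne, ← sum_pow_transport T, hord', ← hd.orderOf_eq, hg₀]
      exact (sum_ne_zero_iff p hd ⟨hS, hSu, orthMat_isometry h2 hS g'⟩ hA.2.1 he).2 hne

end CfsgLib.KnownB.O9Spec
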