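import Cfsg.Agent.Lib.KnownB.O9Spec.Classify
import Cfsg.Agent.Lib.KnownB.O9Spec.Easy
import Cfsg.Agent.Lib.KnownB.ElementOrders

/-!
The spectrum of `Ω₉(q)` is the spectrum of `V : Ω₈⁻(q)`.
-/

set_option autoImplicit false
set_option linter.unusedSectionVars false

namespace CfsgLib.KnownB.O9Spec

open Polynomial Matrix CfsgLib.Geometry CfsgLib.KnownB.PrimeGraph

universe u

variable {F : Type u} [Field F] [Fintype F]

theorem not_dvd_pow_sub_one (p : ℕ) [Fact p.Prime] [CharP F p] {k : ℕ} (hk : 0 < k) :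
    ¬ p ∣ Fintype.card F ^ k - 1 ∧ ¬ p ∣ Fintype.card F ^ k + 1 := by
  have hp := (Fact.out : p.Prime)
  obtain ⟨f, -, hf⟩ := FiniteField.card F p
  have hd : p ∣ Fintype.card F ^ k := dvd_pow (hf ▸ dvd_pow_self p f.ne_zero) hk.ne'
  refine ⟨fun h => ?_, fun h => ?_⟩
  · have h1 := Nat.dvd_sub hd h
    rw [Nat.sub_sub_self (Nat.one_le_pow _ _ Fintype.card_pos)] at h1
    exact hp.ne_one (Nat.dvd_one.1 h1)
  · exact hp.ne_one (Nat.dvd_one.1 ((Nat.dvd_add_right hd).1 h))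

theorem not_dvd_lcm {p x y : ℕ} (hp : p.Prime) (hx : ¬ p ∣ x) (hy : ¬ p ∣ y) : ¬ p ∣ Nat.lcm x y :=
  fun h => (hp.dvd_mul.1 (h.trans (Nat.lcm_dvd_mul x y))).elim hx hy

/-- Data of a target with a unipotent part of order `p ^ (b + 1)`. -/
theorem target_of_unip (p : ℕ) [Fact p.Prime] [CharP F p] (hp3 : 3 ≤ p) (h2 : (2 : F) ≠ 0) {a c d b L : ℕ}
    {S A : Matrix (Fin a) (Fin a) F} (hac : a + c = 9) (hA : Good S A) (hL : L ∣ orderOf A) (hpL : ¬ p ∣ L)
    (hd : Odd d) (hdc : d ≤ c) (hlt : p ^ b < d) (hle : d ≤ p ^ (b + 1)) :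
    ∃ m, p ^ (b + 1) * L ∣ m ∧ Spec8 F p m := by
  have hp := (Fact.out : p.Prime)
  obtain ⟨T, U, hU, h1, h3, -⟩ := exists_pad (F := F) h2 hd hdc one_ne_zero
  have h1b := Nat.one_le_pow b p hp.pos
  refine ⟨_, ?_, spec8_of_data p hp3 h2 (U := U) hac hA ⟨d, h1⟩ (fun hc => by omega)⟩
  rw [orderOf_eq_of_nil p h1 h3 hle hlt]
  exact ((Nat.Coprime.pow_left _ ((Nat.Prime.coprime_iff_not_dvd hp).2 hpL))).mul_dvd_of_dvd_of_dvd
    (Nat.dvd_lcm_right _ _) (hL.trans (Nat.dvd_lcm_left _ _))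

/-- Every target divides an order in `V : Ω₈⁻`. -/
theorem exists_spec8_of_target (p : ℕ) [Fact p.Prime] [CharP F p] (hp3 : 3 ≤ p) (h2 : (2 : F) ≠ 0)
    (hq : Odd (Fintype.card F)) {N : ℕ} (hN : IsTarget p (Fintype.card F) N) :
    ∃ m, N ∣ m ∧ Spec8 F p m := by
  set q := Fintype.card F with hqdef
  have hp := (Fact.out : p.Prime)
  obtain ⟨S1, A1, hs1, dS1⟩ := exists_split h2 hq (d := 1) one_pos
  obtain ⟨S2, A2, hs2, dS2⟩ := exists_split h2 hq (d := 2) two_pos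
  obtain ⟨S3, A3, hs3, dS3⟩ := exists_split h2 hq (d := 3) three_pos
  obtain ⟨T1, B1, ht1, dT1⟩ := exists_twisted_ns h2 hq (h := 1) (Or.inl rfl)
  obtain ⟨T2, B2, ht2, dT2⟩ := exists_twisted_ns h2 hq (h := 2) (Or.inr (Or.inl rfl))
  obtain ⟨T3, B3, ht3, dT3⟩ := exists_twisted_ns h2 hq (h := 3) (Or.inr (Or.inr rfl))
  obtain ⟨n1, n1'⟩ := not_dvd_pow_sub_one (F := F) p (show 0 < 1 by norm_num)
  obtain ⟨n2, n2'⟩ := not_dvd_pow_sub_one (F := F) p (show 0 < 2 by norm_num)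
  rw [pow_one, ← hqdef] at n1 n1'
  have eight : ∀ {a : ℕ} {S A : Matrix (Fin a) (Fin a) F} {M : ℕ}, a = 8 → Good S A → M ∣ orderOf A →
      ¬ IsSquare S.det → ∃ m, M ∣ m ∧ Spec8 F p m := fun {a S A M} ha hA hM hns =>
    ⟨_, hM.trans (Nat.dvd_lcm_left _ _),
      spec8_of_data p hp3 h2 (U := (1 : Matrix (Fin 1) (Fin 1) F)) (by omega) hA ⟨1, by simp⟩ fun _ => hns⟩
  rcases hN with rfl | rfl | rfl | rfl | rfl | rfl | ⟨rfl, rfl | rfl⟩ | ⟨hp5, rfl⟩
  · obtain ⟨hA, hM, hd⟩ := good_pair hs3 ht1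
    rw [pow_one] at hM
    refine eight rfl hA hM ?_
    rw [hd, dS3]
    intro h
    exact dT1 (by simpa [pow_succ] using h)
  · obtain ⟨hA, hM, hd⟩ := good_pair ht3 hs1
    rw [pow_one] at hM
    refine eight rfl hA hM ?_
    rw [hd, dS1]
    intro h
    exact dT3 (by simpa [pow_succ, mul_comm] using h)
  · obtain ⟨hA, hM, hd⟩ := good_pair hs2 ht2
    refine eight rfl hA hM ?_
    rw [hd, dS2]
    exact dT2
  · obtain ⟨hA, hM, -⟩ := good_pair ht2 hs1
    rw [pow_one] at hM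
    simpa using target_of_unip p hp3 h2 (b := 0) (d := 3) (c := 3) rfl hA hM
      (not_dvd_lcm hp n2' n1) (by decide) le_rfl (by norm_num) (by rwa [zero_add, pow_one])
  · obtain ⟨hA, hM, -⟩ := good_pair ht2 ht1
    rw [pow_one] at hM
    simpa using target_of_unip p hp3 h2 (b := 0) (d := 3) (c := 3) rfl hA hM
      (not_dvd_lcm hp n2' n1') (by decide) le_rfl (by norm_num) (by rwa [zero_add, pow_one])
  · obtain ⟨hA, hM, -⟩ := good_pair hs2 hs1
    simpa using target_of_unip p hp3 h2 (b := 0) (d := 3) (c := 3) rfl hA ((Nat.dvd_lcm_left _ _).trans hM)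
      n2 (by decide) le_rfl (by norm_num) (by rwa [zero_add, pow_one])
  · obtain ⟨hA, hM, -⟩ := good_pair hs1 hs1
    rw [pow_one, Nat.lcm_self] at hM
    exact target_of_unip 3 hp3 h2 (b := 1) (d := 5) (c := 5) rfl hA hM n1 (by decide) le_rfl (by norm_num)
      (by norm_num)
  · obtain ⟨hA, hM, -⟩ := good_pair ht1 ht1
    rw [pow_one, Nat.lcm_self] at hM
    exact target_of_unip 3 hp3 h2 (b := 1) (d := 5) (c := 5) rfl hA hM n1' (by decide) le_rfl (by norm_num)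
      (by norm_num)
  · have hp2 : p ≠ 2 := by omega
    have h1 : (1 : Matrix (Fin 2) (Fin 2) F) - -1 = (2 : F) • 1 := by rw [sub_neg_eq_add, two_smul]
    have hG : Good (1 : Matrix (Fin 2) (Fin 2) F) (-1) := by
      refine ⟨⟨transpose_one, isUnit_one, by simp⟩, ?_, even_two, ?_⟩
      · rw [h1, det_smul, det_one, mul_one]; exact pow_ne_zero _ h2
      · rw [h1, det_one, one_mul, det_smul, det_one, mul_one, Fintype.card_fin]; exact ⟨2, pow_two _⟩
    have hord : 2 ∣ orderOf (-1 : Matrix (Fin 2) (Fin 2) F) := by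
      haveI := Fact.mk Nat.prime_two
      rw [orderOf_eq_prime (by rw [neg_one_sq]) fun h => h2 ?_]
      have := congrFun (congrFun h 0) 0
      simp at this
      linear_combination -this
    refine target_of_unip p hp3 h2 (b := 1) (d := p + 2) (c := 7) rfl hG hord ?_ ?_ (by omega)
      (by rw [pow_one]; omega) ?_
    · exact fun h => hp2 ((Nat.prime_dvd_prime_iff_eq hp Nat.prime_two).1 h)
    · exact (hp.odd_of_ne_two hp2).add_even even_two
    · show p + 2 ≤ p ^ 2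
      nlinarith

theorem isospectral (h2 : (2 : F) ≠ 0) (hq : Odd (Fintype.card F)) {a b : F}
    (hab : ∀ z₁ z₂ : F, z₁ ^ 2 + a * z₁ * z₂ + b * z₂ ^ 2 = 0 → z₁ = 0 ∧ z₂ = 0)
    (φ : Cfsg.Omega F (Cfsg.quadFormMinus 3 F a b) →*
      MulAut (Multiplicative (((Fin 3 ⊕ Fin 3) ⊕ Fin 2) → F)))
    (hφ : ∀ g w, φ g (Multiplicative.ofAdd w) = Multiplicative.ofAdd (omegaMat F _ g *ᵥ w)) :
    Set.range (orderOf : Cfsg.POmega F (Cfsg.quadFormOdd 4 F) → ℕ) =
      Set.range (orderOf : Multiplicative (((Fin 3 ⊕ Fin 3) ⊕ Fin 2) → F) ⋊[φ]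
        Cfsg.Omega F (Cfsg.quadFormMinus 3 F a b) → ℕ) := by
  obtain ⟨p, hp⟩ := CharP.exists F
  haveI := Fact.mk (CharP.char_is_prime F p)
  have hp3 : 3 ≤ p := by
    have h := (Fact.out : p.Prime).two_le
    rcases h.lt_or_eq with h | h
    · omega
    · subst h
      exact absurd (CharP.cast_eq_zero F 2) (by exact_mod_cast h2)
  haveI : Finite (Cfsg.Omega F (Cfsg.quadFormMinus 3 F a b)) := Finite.of_injective _ (omegaMat_injective _)
  haveI : Finite (Multiplicative (((Fin 3 ⊕ Fin 3) ⊕ Fin 2) → F) ⋊[φ]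
      Cfsg.Omega F (Cfsg.quadFormMinus 3 F a b)) := Finite.of_equiv _ SemidirectProduct.equivProd.symm
  ext m
  rw [spec9_iff p h2, spec8_iff p h2 hab φ hφ]
  refine ⟨fun hm => ?_, spec9_of_spec8 p hp3 h2⟩
  obtain ⟨x, c, S, A, T, U, hxc, hA, hU, hn, rfl⟩ := hm
  by_cases hplus : c = 1 ∧ IsSquare S.det
  · obtain ⟨rfl, hsq⟩ := hplus
    obtain rfl : x = 8 := by omega
    have hU1 : U = 1 := sub_eq_zero.1 (by simpa using KnownA.pow_eq_zero_of_nilpotent hn)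
    subst hU1
    have hA2 : IsSquare (1 - A).det := by
      obtain ⟨t, ht⟩ := hsq
      have ht0 : t ≠ 0 := fun h => hA.1.det_ne (by rw [ht, h, mul_zero])
      have h := hA.2.2.2
      rw [ht] at h
      exact (isSquare_mul_sq_iff ht0).1 h
    obtain ⟨N, hN, hAN⟩ := exists_target p hp3 h2 hq hA.1 hA.2.1 hsq hA2
    obtain ⟨m, hNm, hm⟩ := exists_spec8_of_target p hp3 h2 hq hN
    rw [orderOf_one, Nat.lcm_one_right]
    obtain ⟨y, rfl⟩ := (spec8_iff p h2 hab φ hφ m).2 hm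
    exact (spec8_iff p h2 hab φ hφ _).1
      (ElementOrders.mem_range_orderOf_of_dvd ((orderOf_dvd_of_pow_eq_one hAN).trans hNm))
  · exact spec8_of_data p hp3 h2 hxc hA hn fun hc hs => hplus ⟨hc, hs⟩

end CfsgLib.KnownB.O9Spec
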