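import Cfsg.Agent.Lib.KnownB.O9Spec.Group

/-!
Maximal torus generators of small orthogonal groups: discriminant and spinor norm.
-/

set_option autoImplicit false
set_option linter.unusedSectionVars false

namespace CfsgLib.KnownB.O9Spec

open Polynomial Matrix QuadraticMap CfsgLib.Geometry CfsgLib.KnownB.PrimeGraph

universe u

variable {F : Type u} [Field F] [Fintype F]

/-- An isometry without eigenvalue one of non-square spinor norm. -/
def NS {a : ℕ} (S A : Matrix (Fin a) (Fin a) F) (M : ℕ) : Prop :=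
  IsIso S A ∧ (1 - A).det ≠ 0 ∧ Even a ∧ ¬ IsSquare (S.det * (1 - A).det) ∧ M ∣ orderOf A

theorem ringChar_ne_two (h2 : (2 : F) ≠ 0) : ringChar F ≠ 2 := fun hc => h2 (by
  haveI := ringChar.of_eq hc; exact CharTwo.two_eq_zero)

theorem isSquare_mul_iff_of_sq {t x : F} (ht : t ≠ 0) : IsSquare (x * (t * t)) ↔ IsSquare x := by
  rw [mul_comm, isSquare_mul_sq_iff ht]

theorem good_pair {a b : ℕ} {S A : Matrix (Fin a) (Fin a) F} {T B : Matrix (Fin b) (Fin b) F} {M M' : ℕ}
    (h : NS S A M) (h' : NS T B M') :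
    Good (blk S T) (blk A B) ∧ Nat.lcm M M' ∣ orderOf (blk A B) ∧ (blk S T).det = S.det * T.det := by
  obtain ⟨hA, hA1, hae, hAs, hAo⟩ := h
  obtain ⟨hB, hB1, hbe, hBs, hBo⟩ := h'
  have hdet : (1 - blk A B).det = (1 - A).det * (1 - B).det := by
    rw [show 1 - blk A B = blk (1 - A) (1 - B) by
      rw [sub_eq_iff_eq_add, blk_add, sub_add_cancel, sub_add_cancel, blk_one], blk_det]
  refine ⟨⟨hA.blk hB, by rw [hdet]; exact mul_ne_zero hA1 hB1, hae.add hbe, ?_⟩, ?_, blk_det _ _⟩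
  · rw [hdet, blk_det, show S.det * T.det * ((1 - A).det * (1 - B).det) =
      S.det * (1 - A).det * (T.det * (1 - B).det) by ring]
    exact isSquare_mul_of_not hAs hBs
  · obtain ⟨R, L, R', L', hd, -⟩ := exists_dec_blk S A T B
    rw [hd.orderOf_eq]
    exact Nat.lcm_dvd (hAo.trans (Nat.dvd_lcm_left _ _)) (hBo.trans (Nat.dvd_lcm_right _ _))

theorem neg_one_pow_half (hq : Odd (Fintype.card F)) (h : ℕ) :
    (-1 : F) ^ ((Fintype.card F ^ h - 1) / 2) = ((-1 : F) ^ h) ^ (Fintype.card F / 2) := by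
  obtain ⟨i, hi⟩ := hq
  induction h with
  | zero => simp
  | succ h ih =>
    obtain ⟨j, hj⟩ : Odd (Fintype.card F ^ h) := Odd.pow ⟨i, hi⟩
    rw [hj, hi] at ih
    rw [pow_succ _ h, hj, hi]
    rw [show ((2 * j + 1) * (2 * i + 1) - 1) / 2 = 2 * (i * j) + (i + j) by
      rw [show (2 * j + 1) * (2 * i + 1) = 2 * (2 * (i * j) + (i + j)) + 1 by ring, Nat.add_sub_cancel,
        Nat.mul_div_cancel_left _ two_pos]]
    rw [show (2 * j + 1 - 1) / 2 = j by omega, show (2 * i + 1) / 2 = i by omega] at ih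
    rw [show (2 * i + 1) / 2 = i by omega, pow_succ (-1 : F) h, mul_pow, ← ih, pow_add, pow_add,
      (even_two_mul (i * j)).neg_one_pow, one_mul, mul_comm]

theorem algebraMap_norm_pow_half {K : Type*} [Field K] [Algebra F K] [Finite K] (hq : Odd (Fintype.card F))
    {n : ℕ} (hK : Nat.card K = Fintype.card F ^ n) (y : K) :
    algebraMap F K (Algebra.norm F y ^ (Fintype.card F / 2)) = y ^ ((Fintype.card F ^ n - 1) / 2) := by
  obtain ⟨m, hm⟩ : Fintype.card F - 1 ∣ Fintype.card F ^ n - 1 := by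
    simpa using Nat.sub_dvd_pow_sub_pow (Fintype.card F) 1 n
  obtain ⟨i, hi⟩ := hq
  have hq1 := Fintype.one_lt_card (α := F)
  rw [map_pow, FiniteField.algebraMap_norm_eq_pow, hK, Nat.card_eq_fintype_card, hm,
    Nat.mul_div_cancel_left _ (by omega), ← pow_mul, hi, Nat.add_sub_cancel,
    show (2 * i + 1) / 2 = i by omega, mul_assoc, Nat.mul_div_cancel_left _ two_pos, mul_comm]

/-- Symmetric off-diagonal identity blocks. -/
theorem exists_split (h2 : (2 : F) ≠ 0) (hq : Odd (Fintype.card F)) {d : ℕ} (hd : 0 < d) :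
    ∃ S A : Matrix (Fin (d + d)) (Fin (d + d)) F, NS S A (Fintype.card F ^ d - 1) ∧ S.det = (-1) ^ d := by
  classical
  obtain ⟨p, hp⟩ := CharP.exists F
  haveI := Fact.mk (CharP.char_is_prime F p)
  haveI : NeZero d := ⟨hd.ne'⟩
  let K := FiniteField.Extension F p d
  let b := (Module.finBasis F K).reindex (finCongr (FiniteField.finrank_extension F p d))
  have hK : Nat.card K = Fintype.card F ^ d := by rw [FiniteField.natCard_extension, Nat.card_eq_fintype_card]
  obtain ⟨ω, hω⟩ := IsCyclic.exists_ofOrder_eq_natCard (α := Kˣ)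
  rw [Nat.card_units, hK] at hω
  have hQ : 3 ≤ Fintype.card F ^ d := by
    have h1 : 3 ≤ Fintype.card F := by
      obtain ⟨i, hi⟩ := hq
      have := Fintype.one_lt_card (α := F)
      omega
    exact h1.trans (Nat.le_self_pow hd.ne' _)
  have hω1 : (ω : K) ≠ 1 := fun h => by
    rw [orderOf_eq_one_iff.2 (Units.ext h)] at hω
    omega
  have hns : ¬ IsSquare (Algebra.norm F (ω : K)) := by
    rw [FiniteField.isSquare_iff (ringChar_ne_two h2) (Algebra.norm_ne_zero_iff.2 ω.ne_zero)]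
    intro h
    have h' := congrArg (algebraMap F K) h
    rw [algebraMap_norm_pow_half hq hK, map_one, ← Units.val_pow_eq_pow_val, Units.val_eq_one] at h'
    have := Nat.le_of_dvd (by omega) (hω ▸ orderOf_dvd_of_pow_eq_one h')
    omega
  set A := Algebra.leftMulMatrix b (ω : K) with hA
  set A' := Algebra.leftMulMatrix b ((ω⁻¹ : Kˣ) : K) with hA'
  have hAA : A' * A = 1 := by rw [hA, hA', ← map_mul, Units.inv_mul, map_one]
  let e := (finSumFinEquiv (m := d) (n := d)).symm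
  let S : Matrix (Fin (d + d)) (Fin (d + d)) F := (fromBlocks 0 1 1 0).submatrix e e
  have hS : S.det = (-1) ^ d := by
    rw [det_submatrix_equiv_self, ← det_plus_gram (F := F) d]
    congr 1
    rw [plusMat, fromBlocks_transpose, fromBlocks_add]
    simp
  have hdA : (1 - A).det = Algebra.norm F (1 - (ω : K)) := by
    rw [Algebra.norm_eq_matrix_det b, map_sub, map_one]
  have hdA' : (1 - A'ᵀ).det = Algebra.norm F (1 - ((ω⁻¹ : Kˣ) : K)) := by
    rw [Algebra.norm_eq_matrix_det b, map_sub, map_one, ← det_transpose, transpose_sub, transpose_one,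
      transpose_transpose]
  have hdet : (1 - blk A A'ᵀ).det = (1 - A).det * (1 - A'ᵀ).det := by
    rw [show 1 - blk A A'ᵀ = blk (1 - A) (1 - A'ᵀ) by
      rw [sub_eq_iff_eq_add, blk_add, sub_add_cancel, sub_add_cancel, blk_one], blk_det]
  have hN : Algebra.norm F (1 - (ω : K)) ≠ 0 := Algebra.norm_ne_zero_iff.2 (sub_ne_zero.2 hω1.symm)
  have hN' : Algebra.norm F (1 - ((ω⁻¹ : Kˣ) : K)) * Algebra.norm F (ω : K) =
      (-1) ^ d * Algebra.norm F (1 - (ω : K)) := by
    rw [← map_mul, sub_mul, one_mul, Units.inv_mul, ← neg_sub (1 : K), ← neg_one_mul, map_mul]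
    congr 1
    rw [show (-1 : K) = algebraMap F K (-1) by rw [map_neg, map_one], Algebra.norm_algebraMap,
      FiniteField.finrank_extension]
  refine ⟨S, blk A A'ᵀ, ⟨⟨?_, ?_, ?_⟩, ?_, ⟨d, rfl⟩, ?_, ?_⟩, hS⟩
  · simp only [S, transpose_submatrix, fromBlocks_transpose]
    simp
  · rw [Matrix.isUnit_iff_isUnit_det, hS]
    exact isUnit_iff_ne_zero.2 (pow_ne_zero _ (neg_ne_zero.2 one_ne_zero))
  · simp only [S, e, blk, transpose_submatrix, Matrix.submatrix_mul_equiv, fromBlocks_transpose,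
      fromBlocks_multiply]
    simp [← Matrix.transpose_mul, hAA]
  · rw [hdet, hdA, hdA']
    refine mul_ne_zero hN (fun h0 => ?_)
    rw [h0, zero_mul] at hN'
    exact mul_ne_zero (pow_ne_zero _ (neg_ne_zero.2 one_ne_zero)) hN hN'.symm
  · intro hsq
    refine hns ?_
    rw [hS, hdet, hdA, hdA'] at hsq
    have h0 : Algebra.norm F (ω : K) ≠ 0 := Algebra.norm_ne_zero_iff.2 ω.ne_zero
    have e1 : Algebra.norm F (ω : K) * ((-1) ^ d * (Algebra.norm F (1 - (ω : K)) *
        Algebra.norm F (1 - ((ω⁻¹ : Kˣ) : K)))) =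
        ((-1) ^ d * Algebra.norm F (1 - (ω : K))) * ((-1) ^ d * Algebra.norm F (1 - (ω : K))) := by
      linear_combination ((-1) ^ d * Algebra.norm F (1 - (ω : K))) * hN'
    obtain ⟨t, ht⟩ := hsq
    rw [ht] at e1
    have ht0 : t ≠ 0 := by
      rintro rfl
      simp [hN] at e1
    exact ⟨(-1) ^ d * Algebra.norm F (1 - (ω : K)) / t, by field_simp; linear_combination e1⟩
  · obtain ⟨R, L, R', L', hd', -⟩ := exists_dec_blk (1 : Matrix (Fin d) (Fin d) F) A 1 A'ᵀ
    rw [hd'.orderOf_eq, ← hω]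
    refine dvd_trans ?_ (Nat.dvd_lcm_left _ _)
    exact dvd_of_eq ((orderOf_units (y := ω)).symm.trans
      (orderOf_injective (Algebra.leftMulMatrix b).toRingHom.toMonoidHom
        (Algebra.leftMulMatrix_injective b) (ω : K)).symm)

/-- The anisotropic torus, up to its discriminant. -/
theorem exists_twisted (h2 : (2 : F) ≠ 0) (hq : Odd (Fintype.card F)) {h : ℕ} (hh : 0 < h) :
    ∃ S A : Matrix (Fin (h + h)) (Fin (h + h)) F, IsIso S A ∧ (1 - A).det ≠ 0 ∧
      IsSquare ((-1) ^ h * (1 - A).det) ∧ orderOf A = Fintype.card F ^ h + 1 ∧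
      (h = 1 → ∀ v, v ≠ 0 → v ⬝ᵥ S *ᵥ v ≠ 0) := by
  classical
  obtain ⟨p, hp⟩ := CharP.exists F
  haveI := Fact.mk (CharP.char_is_prime F p)
  haveI : NeZero (h + h) := ⟨by omega⟩
  let L := FiniteField.Extension F p (h + h)
  set Q := Fintype.card F with hQ
  have hL : Nat.card L = Q ^ (h + h) := by rw [FiniteField.natCard_extension, Nat.card_eq_fintype_card]
  let σ : L ≃ₐ[F] L := (FiniteField.frobeniusAlgEquivOfAlgebraic F L) ^ h
  have hσ : ∀ x : L, σ x = x ^ Q ^ h := fun x => by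
    show ((FiniteField.frobeniusAlgEquivOfAlgebraic F L) ^ h) x = _
    rw [AlgEquiv.coe_pow, FiniteField.coe_frobeniusAlgEquivOfAlgebraic, pow_iterate]
  have hσσ : ∀ x : L, σ (σ x) = x := fun x => by
    haveI := Fintype.ofFinite L
    rw [hσ, hσ, ← pow_mul, ← pow_add, ← hL, Nat.card_eq_fintype_card, FiniteField.pow_card]
  obtain ⟨ω, hω⟩ := IsCyclic.exists_ofOrder_eq_natCard (α := Lˣ)
  rw [Nat.card_units, hL] at hω
  have hQh : 1 < Q ^ h := Nat.one_lt_pow hh.ne' Fintype.one_lt_card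
  have hfac : Q ^ (h + h) - 1 = (Q ^ h + 1) * (Q ^ h - 1) := by
    rw [pow_add]; simpa [pow_two] using Nat.sq_sub_sq (Q ^ h) 1
  set w := ω ^ (Q ^ h - 1) with hw
  have hword : orderOf w = Q ^ h + 1 := by
    rw [hw, orderOf_pow_of_dvd (by omega) (by rw [hω, hfac]; exact dvd_mul_left _ _), hω, hfac,
      Nat.mul_div_cancel _ (by omega)]
  have hwσ : (w : L) * σ (w : L) = 1 := by
    rw [hσ, ← Units.val_pow_eq_pow_val, ← Units.val_mul, ← pow_succ', ← hword, pow_orderOf_eq_one,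
      Units.val_one]
  let b := (Module.finBasis F L).reindex (finCongr (FiniteField.finrank_extension F p (h + h)))
  let B : LinearMap.BilinForm F L := LinearMap.mk₂ F (fun x y => Algebra.trace F L (x * σ y))
    (fun x x' y => by rw [add_mul, map_add])
    (fun a x y => by rw [smul_mul_assoc, map_smul])
    (fun x y y' => by rw [map_add, mul_add, map_add])
    (fun a x y => by rw [map_smul, mul_smul_comm, map_smul])
  have hw1 : (w : L) ≠ 1 := fun h1 => by
    rw [orderOf_eq_one_iff.2 (Units.ext h1)] at hword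
    omega
  refine ⟨LinearMap.BilinForm.toMatrix b B, Algebra.leftMulMatrix b (w : L), ⟨?_, ?_, ?_⟩, ?_, ?_, ?_, ?_⟩
  · ext i j
    rw [Matrix.transpose_apply, LinearMap.BilinForm.toMatrix_apply, LinearMap.BilinForm.toMatrix_apply]
    show Algebra.trace F L (b j * σ (b i)) = Algebra.trace F L (b i * σ (b j))
    rw [← Algebra.trace_eq_of_algEquiv σ (b i * σ (b j)), map_mul σ, hσσ, mul_comm]
  · rw [Matrix.isUnit_iff_isUnit_det, isUnit_iff_ne_zero]
    refine (LinearMap.BilinForm.nondegenerate_iff_det_ne_zero b).1 ?_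
    refine (LinearMap.IsRefl.nondegenerate_iff_separatingLeft ?_).2 fun x hx => ?_
    · intro x y hxy
      show Algebra.trace F L (y * σ x) = 0
      rwa [← Algebra.trace_eq_of_algEquiv σ (y * σ x), map_mul σ, hσσ, mul_comm]
    refine (traceForm_nondegenerate F L).1 x fun z => ?_
    have h1 : Algebra.trace F L (x * σ (σ z)) = 0 := hx (σ z)
    rw [hσσ] at h1
    rw [Algebra.traceForm_apply, h1]
  · rw [show Algebra.leftMulMatrix b (w : L) = LinearMap.toMatrix b b (LinearMap.mulLeft F (w : L)) from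
      (Algebra.toMatrix_lmul_eq b (w : L)).symm, ← LinearMap.BilinForm.toMatrix_comp b b]
    congr 1
    refine LinearMap.ext₂ fun x y => ?_
    show Algebra.trace F L ((w : L) * x * σ ((w : L) * y)) = Algebra.trace F L (x * σ y)
    rw [map_mul σ, show (w : L) * x * (σ (w : L) * σ y) = (w : L) * σ (w : L) * (x * σ y) by ring, hwσ,
      one_mul]
  · rw [← map_one (Algebra.leftMulMatrix b), ← map_sub, ← Algebra.norm_eq_matrix_det b]
    exact Algebra.norm_ne_zero_iff.2 (sub_ne_zero.2 hw1.symm)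
  · rw [← map_one (Algebra.leftMulMatrix b), ← map_sub, ← Algebra.norm_eq_matrix_det b]
    have hN : Algebra.norm F (1 - (w : L)) ≠ 0 := Algebra.norm_ne_zero_iff.2 (sub_ne_zero.2 hw1.symm)
    rw [FiniteField.isSquare_iff (ringChar_ne_two h2) (mul_ne_zero (pow_ne_zero _ (neg_ne_zero.2 one_ne_zero)) hN)]
    refine (algebraMap F L).injective ?_
    rw [mul_pow, map_mul, algebraMap_norm_pow_half hq hL, ← neg_one_pow_half hq, map_pow, map_neg, map_one]
    -- `1 - w = -δ / ω` with `δ ^ (Q ^ h - 1) = -1`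
    set δ : L := (ω : L) ^ Q ^ h - ω with hδ
    have hyω : (1 - (w : L)) * ω = -δ := by
      rw [hδ, sub_mul, one_mul, hw, Units.val_pow_eq_pow_val, ← pow_succ, Nat.sub_add_cancel hQh.le]
      ring
    have hδ0 : δ ≠ 0 := fun h0 => by
      rw [h0, neg_zero, mul_eq_zero] at hyω
      exact hyω.elim (sub_ne_zero.2 hw1.symm) ω.ne_zero
    have hδQ : δ ^ (Q ^ h - 1) = -1 := by
      refine mul_right_cancel₀ hδ0 ?_
      rw [← pow_succ, Nat.sub_add_cancel hQh.le, hδ, ← hσ, map_sub, map_pow, ← hσ, hσσ, hσ]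
      ring
    obtain ⟨j, hj⟩ : Odd (Q ^ h) := hq.pow
    have hhalf : (Q ^ (h + h) - 1) / 2 = (Q ^ h - 1) * (j + 1) := by
      rw [hfac, hj, Nat.add_sub_cancel, show (2 * j + 1 + 1) * (2 * j) = 2 * (2 * j * (j + 1)) by ring,
        Nat.mul_div_cancel_left _ two_pos]
    have hωhalf : (ω : L) ^ ((Q ^ (h + h) - 1) / 2) = -1 := by
      have hsq : ((ω : L) ^ ((Q ^ (h + h) - 1) / 2)) * (ω : L) ^ ((Q ^ (h + h) - 1) / 2) = 1 := by
        rw [← pow_add, show (Q ^ (h + h) - 1) / 2 + (Q ^ (h + h) - 1) / 2 = Q ^ (h + h) - 1 by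
          rw [hhalf, hfac, hj]; rw [Nat.add_sub_cancel]; ring, ← hω, ← Units.val_pow_eq_pow_val,
          pow_orderOf_eq_one, Units.val_one]
      refine (mul_self_eq_one_iff.1 hsq).resolve_left fun h1 => ?_
      rw [← Units.val_pow_eq_pow_val, Units.val_eq_one] at h1
      have h3 := hω ▸ orderOf_dvd_of_pow_eq_one h1
      have hpos : 0 < (Q ^ (h + h) - 1) / 2 := by
        rw [hhalf]; exact Nat.mul_pos (by omega) j.succ_pos
      have := Nat.le_of_dvd hpos h3
      omega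
    have hy : (1 - (w : L)) ^ ((Q ^ (h + h) - 1) / 2) * (ω : L) ^ ((Q ^ (h + h) - 1) / 2) = (-1) ^ (j + 1) := by
      rw [← mul_pow, hyω, hhalf, pow_mul, show (-δ) ^ (Q ^ h - 1) = δ ^ (Q ^ h - 1) from
        (show Even (Q ^ h - 1) from ⟨j, by omega⟩).neg_pow δ, hδQ]
    rw [hωhalf, mul_neg, mul_one, pow_succ, mul_neg, mul_one, neg_inj] at hy
    rw [hy, show (Q ^ h - 1) / 2 = j by omega, ← mul_pow, neg_one_mul, neg_neg, one_pow]
  · exact (orderOf_injective (Algebra.leftMulMatrix b).toRingHom.toMonoidHom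
      (Algebra.leftMulMatrix_injective b) (w : L)).trans (orderOf_units.trans hword)
  · intro h1 v hv
    subst h1
    rw [LinearMap.BilinForm.dotProduct_toMatrix_mulVec]
    set x := b.equivFun.symm v
    have hx : x ≠ 0 := fun h0 => hv ((LinearEquiv.map_eq_zero_iff _).1 h0)
    show Algebra.trace F L (x * σ x) ≠ 0
    have hnorm : x * σ x = algebraMap F L (Algebra.norm F x) := by
      rw [FiniteField.algebraMap_norm_eq_pow, hL, Nat.card_eq_fintype_card, ← hQ, hσ, pow_one, ← pow_succ']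
      congr 1
      refine (Nat.div_eq_of_eq_mul_left (by have := Fintype.one_lt_card (α := F); omega) ?_).symm
      simpa [pow_two] using Nat.sq_sub_sq Q 1
    rw [hnorm, Algebra.trace_algebraMap, FiniteField.finrank_extension, add_smul, one_smul, ← two_mul]
    exact mul_ne_zero h2 (Algebra.norm_ne_zero_iff.2 hx)

/-- An anisotropic plane has non-square opposite discriminant. -/
theorem not_isSquare_of_aniso {S : Matrix (Fin 2) (Fin 2) F} (hS : Sᵀ = S)
    (han : ∀ v, v ≠ 0 → v ⬝ᵥ S *ᵥ v ≠ 0) : ¬ IsSquare ((-1) ^ 1 * S.det) := by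
  rintro ⟨w, hw⟩
  have hr : S 1 0 = S 0 1 := congrFun (congrFun hS 0) 1
  rw [det_fin_two, hr, pow_one] at hw
  by_cases hs : S 0 0 = 0
  · exact han ![1, 0] (fun h => one_ne_zero (congrFun h 0)) (by simp [dotProduct, mulVec, Fin.sum_univ_two, hs])
  · exact han ![-S 0 1 + w, S 0 0] (fun h => hs (congrFun h 1)) (by
      simp [dotProduct, mulVec, Fin.sum_univ_two, hr]
      linear_combination -(S 0 0) * hw)

/-- Isometries of a plus form lie in a group of known order. -/
theorem orderOf_dvd_card_plus (h2 : (2 : F) ≠ 0) {k : ℕ}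
    {S A : Matrix (Fin ((k + 1) + (k + 1))) (Fin ((k + 1) + (k + 1))) F} (h : IsIso S A)
    (hd : IsSquare ((-1) ^ (k + 1) * S.det)) :
    orderOf A ∣ 2 * Fintype.card F ^ ((k + 1) * k) * (Fintype.card F ^ (k + 1) - 1) *
      ∏ i ∈ Finset.range k, (Fintype.card F ^ (2 * (i + 1)) - 1) := by
  classical
  obtain ⟨g, hg⟩ := exists_orth h2 h.1 h.2.1 h.2.2
  have hP := det_plus_gram (F := F) (k + 1)
  have g1 : ∀ {ι : Type} [Fintype ι] [DecidableEq ι] (M : Matrix ι ι F),
      (Matrix.of fun i j => polar (matQuad M) (Pi.basisFun F ι i) (Pi.basisFun F ι j)) = M + Mᵀ := by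
    intro ι _ _ M
    ext i j
    rw [Matrix.of_apply, polar_matQuad, Pi.basisFun_apply, Pi.basisFun_apply, single_one_dotProduct,
      mulVec_single_one]
    rfl
  obtain ⟨E, hE⟩ := exists_isometry_of_disc h2 (Q := matQuad (plusMat (k + 1) F)) (symQuad S)
    (nondegenerate_matQuad (by rw [hP]; exact pow_ne_zero _ (neg_ne_zero.2 one_ne_zero)))
    (symQuad_nondeg h2 h.1 h.2.1)
    (by rw [Module.finrank_fintype_fun_eq_card, Module.finrank_fintype_fun_eq_card, Fintype.card_sum,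
      Fintype.card_fin, Fintype.card_fin])
    (Pi.basisFun F _) (Pi.basisFun F _)
    (by rw [g1, hP, symQuad, g1, symQuad_gram h2 h.1]; exact hd)
  let T : FormSim (Cfsg.quadFormPlus (k + 1) F) ⇑(symQuad S) :=
    ⟨E, 1, fun v => by rw [hE, ← coe_matQuad_plus, Units.val_one, one_mul]⟩
  haveI := finite_orth (symQuad S)
  have h1 := orderOf_dvd_natCard ((T.isoEquiv.trans (isomEquiv (symQuad S))).symm g)
  rw [MulEquiv.orderOf_eq, CfsgLib.Classical.card_isometry_plus k, Nat.card_eq_fintype_card (α := F)] at h1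
  rwa [← hg, orderOf_orthMat]

theorem exists_twisted_ns (h2 : (2 : F) ≠ 0) (hq : Odd (Fintype.card F)) {h : ℕ}
    (hh : h = 1 ∨ h = 2 ∨ h = 3) :
    ∃ S A : Matrix (Fin (h + h)) (Fin (h + h)) F, NS S A (Fintype.card F ^ h + 1) ∧
      ¬ IsSquare ((-1) ^ h * S.det) := by
  obtain ⟨S, A, hA, hA1, hsq, hord, han⟩ := exists_twisted h2 hq (h := h) (by omega)
  have hq3 : 3 ≤ Fintype.card F := by
    obtain ⟨i, hi⟩ := hq
    have := Fintype.one_lt_card (α := F)
    omega
  have hns : ¬ IsSquare ((-1) ^ h * S.det) := by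
    intro hd
    rcases hh with rfl | rfl | rfl
    · exact not_isSquare_of_aniso hA.1 (han rfl) hd
    · have h1 := orderOf_dvd_card_plus h2 (k := 1) hA hd
      rw [hord] at h1
      simp only [Finset.prod_range_one] at h1
      set q := Fintype.card F
      have hcop : (q ^ 2 + 1).Coprime (q ^ 2) := by
        exact (Nat.coprime_self_add_right (m := q ^ 2) (n := 1)).2 (Nat.coprime_one_right _) |>.symm
      have h3 : q ^ 2 + 1 ∣ q ^ 2 * (2 * ((q ^ 2 - 1) * (q ^ 2 - 1))) := by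
        convert h1 using 1 <;> ring
      have h4 := hcop.dvd_of_dvd_mul_left h3
      obtain ⟨c, hc⟩ : ∃ c, q ^ 2 = c + 1 := ⟨q ^ 2 - 1, by have := Nat.one_le_pow 2 q (by omega); omega⟩
      rw [hc, Nat.add_sub_cancel] at h4
      have h5 : c + 1 + 1 ∣ 8 := by
        refine (Nat.dvd_add_right (dvd_mul_of_dvd_left (dvd_mul_left (c + 1 + 1) 2) c)).1
          (show c + 1 + 1 ∣ 2 * (c + 1 + 1) * c + 8 from ?_)
        have e : 2 * (c + 1 + 1) * c + 8 = 2 * (c * c) + 4 * (c + 1 + 1) := by ring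
        rw [e]
        exact Nat.dvd_add h4 (dvd_mul_left _ _)
      have := Nat.le_of_dvd (by norm_num) h5
      have : 9 ≤ q ^ 2 := by nlinarith
      omega
    · have h1 := orderOf_dvd_card_plus h2 (k := 2) hA hd
      rw [hord] at h1
      simp only [Finset.prod_range_succ, Finset.prod_range_zero, one_mul] at h1
      have hZ : ((Fintype.card F : ℤ) ^ 3 + 1) ∣ 2 * (Fintype.card F : ℤ) ^ 6 *
          ((Fintype.card F : ℤ) ^ 3 - 1) * (((Fintype.card F : ℤ) ^ 2 - 1) *
            ((Fintype.card F : ℤ) ^ 4 - 1)) := by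
        have h3 := Int.natCast_dvd_natCast.2 h1
        norm_num [Nat.cast_sub (Nat.one_le_pow _ _ (show 0 < Fintype.card F by omega))] at h3
        exact h3
      generalize hx : (Fintype.card F : ℤ) = x at hZ
      have hx3 : (3 : ℤ) ≤ x := by rw [← hx]; exact_mod_cast hq3
      have hy : (x ^ 2 - x + 1) ∣ 2 * x ^ 6 * (x ^ 3 - 1) * ((x ^ 2 - 1) * (x ^ 4 - 1)) :=
        dvd_trans ⟨x + 1, by ring⟩ hZ
      -- reduce modulo `y = x ^ 2 - x + 1`, where `x ^ 6 = 1`
      have h12 : (x ^ 2 - x + 1) ∣ 12 := by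
        have m3 : x ^ 3 ≡ -1 [ZMOD x ^ 2 - x + 1] := by
          rw [Int.modEq_iff_dvd]; exact ⟨-(x + 1), by ring⟩
        have m2 : x ^ 2 ≡ x - 1 [ZMOD x ^ 2 - x + 1] := by
          rw [Int.modEq_iff_dvd]; exact ⟨-1, by ring⟩
        have m4 : x ^ 4 ≡ -x [ZMOD x ^ 2 - x + 1] := by
          rw [Int.modEq_iff_dvd]; exact ⟨-(x ^ 2 + x), by ring⟩
        have m6 : x ^ 6 ≡ 1 [ZMOD x ^ 2 - x + 1] := by
          rw [Int.modEq_iff_dvd]; exact ⟨-((x + 1) * (x ^ 3 - 1)), by ring⟩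
        have mm : 2 * x ^ 6 * (x ^ 3 - 1) * ((x ^ 2 - 1) * (x ^ 4 - 1)) ≡
            2 * 1 * (-1 - 1) * ((x - 1 - 1) * (-x - 1)) [ZMOD x ^ 2 - x + 1] :=
          ((m6.mul_left 2).mul (m3.sub_right 1)).mul ((m2.sub_right 1).mul (m4.sub_right 1))
        have h0 := (Int.modEq_zero_iff_dvd).2 hy
        have h6 := Int.modEq_iff_dvd.1 (h0.symm.trans mm)
        obtain ⟨c, hc⟩ := h6
        exact ⟨4 - c, by linear_combination -hc⟩
      have h7 : x ^ 2 - x + 1 ≤ 12 := Int.le_of_dvd (by norm_num) h12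
      obtain rfl : x = 3 := by nlinarith
      norm_num at h12
  refine ⟨S, A, ⟨hA, hA1, ⟨h, rfl⟩, fun hs => hns ?_, hord ▸ dvd_rfl⟩, hns⟩
  obtain ⟨t, ht⟩ := hs
  obtain ⟨s, hs'⟩ := hsq
  have hs0 : s ≠ 0 := fun h0 => by
    rw [h0, mul_zero] at hs'
    exact mul_ne_zero (pow_ne_zero _ (neg_ne_zero.2 one_ne_zero)) hA1 hs'
  refine ⟨t / s, ?_⟩
  have e : ((-1 : F) ^ h) * (-1) ^ h = 1 := by rw [← mul_pow, neg_one_mul, neg_neg, one_pow]
  field_simp
  linear_combination ht - ((-1 : F) ^ h * S.det) * hs' + (S.det * (1 - A).det) * e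

end CfsgLib.KnownB.O9Spec
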