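import Cfsg.Agent.Lib.KnownB.O9Spec.Basic

/-!
Regular unipotent isometries in odd dimension; in even dimension there are none.
-/

set_option autoImplicit false
set_option linter.unusedSectionVars false

namespace CfsgLib.KnownB.O9Spec

open Polynomial Matrix

universe u

variable {F : Type u} [Field F]

theorem blk_add {a c : ℕ} (A A' : Matrix (Fin a) (Fin a) F) (U U' : Matrix (Fin c) (Fin c) F) :
    blk A U + blk A' U' = blk (A + A') (U + U') := by
  ext i j
  simp only [blk, Matrix.add_apply, submatrix_apply]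
  rw [← Matrix.add_apply, fromBlocks_add, add_zero, add_zero]

theorem blk_sub_one {a c : ℕ} (A : Matrix (Fin a) (Fin a) F) (U : Matrix (Fin c) (Fin c) F) :
    blk A U - 1 = blk (A - 1) (U - 1) := by
  rw [sub_eq_iff_eq_add, ← blk_one, blk_add, sub_add_cancel, sub_add_cancel]

theorem blk_eq_zero_iff {a c : ℕ} (A : Matrix (Fin a) (Fin a) F) (U : Matrix (Fin c) (Fin c) F) :
    blk A U = 0 ↔ A = 0 ∧ U = 0 := by
  constructor
  · intro h
    refine ⟨?_, ?_⟩
    · ext i j
      simpa [blk] using congrFun (congrFun h (finSumFinEquiv (Sum.inl i))) (finSumFinEquiv (Sum.inl j))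
    · ext i j
      simpa [blk] using congrFun (congrFun h (finSumFinEquiv (Sum.inr i))) (finSumFinEquiv (Sum.inr j))
  · rintro ⟨rfl, rfl⟩
    simp [blk]

/-- A regular unipotent isometry. -/
theorem exists_regular (h2 : (2 : F) ≠ 0) {d : ℕ} (hd : Odd d) :
    ∃ T U : Matrix (Fin d) (Fin d) F, IsIso T U ∧ (U - 1) ^ d = 0 ∧ (U - 1) ^ (d - 1) ≠ 0 := by
  classical
  let N : Matrix (Fin d) (Fin d) F := Matrix.of fun i j => if (j : ℕ) = i + 1 then 1 else 0
  let T : Matrix (Fin d) (Fin d) F := Matrix.of fun i j => if (i : ℕ) + j + 1 = d then (-1) ^ (i : ℕ) else 0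
  have hpow : ∀ k i j, (N ^ k) i j = if (j : ℕ) = i + k then 1 else 0 := by
    intro k
    induction k with
    | zero => intro i j; simp [Matrix.one_apply, Fin.ext_iff, eq_comm]
    | succ k ih =>
      intro i j
      rw [pow_succ, Matrix.mul_apply]
      by_cases h : (i : ℕ) + k < d
      · rw [Finset.sum_eq_single ⟨i + k, h⟩ (fun b _ hb => by
          rw [ih, if_neg (fun e => hb (Fin.ext e)), zero_mul]) (fun hn => absurd (Finset.mem_univ _) hn)]
        simp [ih, N, add_assoc]
      · rw [Finset.sum_eq_zero (fun b _ => by rw [ih, if_neg (by have := b.isLt; omega), zero_mul]),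
          if_neg (by have := j.isLt; omega)]
  have hT : Tᵀ = T := by
    ext i j
    simp only [T, Matrix.transpose_apply, Matrix.of_apply]
    by_cases h : (j : ℕ) + i + 1 = d
    · rw [if_pos h, if_pos (by omega)]
      obtain ⟨m, rfl⟩ := hd
      rcases Nat.even_or_odd (i : ℕ) with hi | hi
      · have hj : Even (j : ℕ) := by rw [Nat.even_iff] at hi ⊢; omega
        rw [hi.neg_one_pow, hj.neg_one_pow]
      · have hj : Odd (j : ℕ) := by rw [Nat.odd_iff] at hi ⊢; omega
        rw [hi.neg_one_pow, hj.neg_one_pow]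
    · rw [if_neg h, if_neg (by omega)]
  have hTT : T * T = 1 := by
    ext i j
    rw [Matrix.mul_apply, Finset.sum_eq_single (i.rev) (fun b _ hb => by
      simp only [T, Matrix.of_apply]
      rw [if_neg (fun e => hb (Fin.ext (by rw [Fin.val_rev]; omega))), zero_mul])
      (fun hn => absurd (Finset.mem_univ _) hn)]
    have hir : (i : ℕ) + (i.rev : ℕ) + 1 = d := by rw [Fin.val_rev]; have := i.isLt; omega
    have ht := congrFun (congrFun hT i) i.rev
    simp only [T, Matrix.transpose_apply, Matrix.of_apply, if_pos hir] at ht ⊢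
    rw [if_pos (show (i.rev : ℕ) + i + 1 = d by omega)] at ht
    by_cases h : i = j
    · subst h
      rw [if_pos (show (i.rev : ℕ) + i + 1 = d by omega), ht, Matrix.one_apply_eq, ← mul_pow]
      simp
    · rw [if_neg (fun e => h (Fin.ext (by omega))), mul_zero, Matrix.one_apply_ne h]
  have hTN : T * N = -(Nᵀ * T) := by
    ext i j
    rw [Matrix.neg_apply, Matrix.mul_apply, Matrix.mul_apply]
    simp only [T, N, Matrix.transpose_apply, Matrix.of_apply, mul_ite, mul_one, mul_zero, ite_mul, zero_mul,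
      one_mul]
    by_cases h : (i : ℕ) + j = d
    · have hi := i.isLt
      have hj := j.isLt
      rw [Finset.sum_eq_single ⟨j - 1, by omega⟩ (fun b _ hb => by
          refine if_neg fun e => hb (Fin.ext ?_); simp only; omega) (fun hn => absurd (Finset.mem_univ _) hn),
        Finset.sum_eq_single ⟨i - 1, by omega⟩ (fun b _ hb => by
          refine if_neg fun e => hb (Fin.ext ?_); simp only; omega) (fun hn => absurd (Finset.mem_univ _) hn)]
      simp only
      rw [if_pos (show (j : ℕ) = j - 1 + 1 by omega), if_pos (show (i : ℕ) + (j - 1) + 1 = d by omega),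
        if_pos (show (i : ℕ) = i - 1 + 1 by omega), if_pos (show (i : ℕ) - 1 + j + 1 = d by omega)]
      conv_lhs => rw [show (i : ℕ) = i - 1 + 1 by omega, pow_succ]
      ring
    · have e1 : ∀ b : Fin d, (if (j : ℕ) = b + 1 then
          (if (i : ℕ) + b + 1 = d then (-1 : F) ^ (i : ℕ) else 0) else 0) = 0 := fun b => by
        split_ifs <;> first | rfl | omega
      have e2 : ∀ b : Fin d, (if (b : ℕ) + j + 1 = d then
          (if (i : ℕ) = b + 1 then (-1 : F) ^ (b : ℕ) else 0) else 0) = 0 := fun b => by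
        split_ifs <;> first | rfl | omega
      rw [Finset.sum_eq_zero fun b _ => e1 b, Finset.sum_eq_zero fun b _ => e2 b, neg_zero]
  have hNd : N ^ d = 0 := by
    ext i j
    rw [hpow, if_neg (by have := j.isLt; omega), Matrix.zero_apply]
  set W := ∑ i ∈ Finset.range d, N ^ i
  have hW : (1 - N) * W = 1 := by rw [mul_neg_geom_sum, hNd, sub_zero]
  have hcW : Commute N W := Commute.sum_right _ _ _ fun i _ => (Commute.refl N).pow_right i
  have hU1 : (1 + N) * W - 1 = (2 : F) • (N * W) := by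
    nth_rewrite 2 [← hW]
    rw [← sub_mul, add_sub_sub_cancel, ← two_smul F N, Matrix.smul_mul]
  have hWu : IsUnit W := IsUnit.of_mul_eq_one _ (mul_eq_one_comm.1 hW)
  refine ⟨T, (1 + N) * W, ⟨hT, IsUnit.of_mul_eq_one _ hTT, ?_⟩, ?_, ?_⟩
  · have h1 : T * (1 + N) = (1 - Nᵀ) * T := by rw [mul_add, mul_one, hTN, sub_mul, one_mul, sub_eq_add_neg]
    have h3 : (1 + Nᵀ) * T = T * (1 - N) := by rw [mul_sub, mul_one, hTN, add_mul, one_mul, sub_neg_eq_add]
    have h4 : Wᵀ * (1 - Nᵀ) = 1 := by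
      rw [show (1 : Matrix (Fin d) (Fin d) F) - Nᵀ = (1 - N)ᵀ by rw [transpose_sub, transpose_one],
        ← transpose_mul, hW, transpose_one]
    have h5 : Commute (1 + Nᵀ) (1 - Nᵀ) :=
      ((Commute.one_left _).add_left ((Commute.one_right _).sub_right (Commute.refl _)))
    calc ((1 + N) * W)ᵀ * T * ((1 + N) * W) = Wᵀ * ((1 + Nᵀ) * (T * (1 + N))) * W := by
          simp only [transpose_mul, transpose_add, transpose_one, Matrix.mul_assoc]
      _ = Wᵀ * (1 - Nᵀ) * ((1 + Nᵀ) * T) * W := by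
          rw [h1, ← Matrix.mul_assoc (1 + Nᵀ), h5.eq]; simp only [Matrix.mul_assoc]
      _ = T := by rw [h4, one_mul, h3, Matrix.mul_assoc, hW, mul_one]
  · rw [hU1, _root_.smul_pow, hcW.mul_pow, hNd, zero_mul, smul_zero]
  · rw [hU1, _root_.smul_pow, hcW.mul_pow]
    intro h0
    rw [smul_eq_zero] at h0
    have h0' := h0.resolve_left (pow_ne_zero _ h2)
    have hN0 : N ^ (d - 1) = 0 := (hWu.pow (d - 1)).mul_right_cancel (by rw [h0', zero_mul])
    have hpos := hd.pos
    have := congrFun (congrFun hN0 ⟨0, hpos⟩) ⟨d - 1, by omega⟩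
    rw [hpow, if_pos (by simp), Matrix.zero_apply] at this
    exact one_ne_zero this

/-- A symmetric matrix with prescribed determinant. -/
theorem exists_filler {k : ℕ} {y : F} (hy : y ≠ 0) :
    ∃ T : Matrix (Fin k) (Fin k) F, IsIso T 1 ∧ (0 < k → T.det = y) := by
  classical
  rcases Nat.eq_zero_or_pos k with rfl | hk
  · exact ⟨1, IsIso.one transpose_one isUnit_one, fun h => absurd h (lt_irrefl 0)⟩
  refine ⟨Matrix.diagonal (Function.update 1 ⟨0, hk⟩ y), IsIso.one (diagonal_transpose _) ?_, fun _ => ?_⟩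
  · rw [Matrix.isUnit_iff_isUnit_det, det_diagonal, isUnit_iff_ne_zero, Finset.prod_ne_zero_iff]
    intro i _
    rcases eq_or_ne i ⟨0, hk⟩ with rfl | h
    · rwa [Function.update_self]
    · rw [Function.update_of_ne h]; exact one_ne_zero
  · rw [det_diagonal, Finset.prod_update_of_mem (Finset.mem_univ _)]
    simp

/-- A unipotent isometry with a Jordan block of odd size `d`, in dimension `c`. -/
theorem exists_pad (h2 : (2 : F) ≠ 0) {d c : ℕ} (hd : Odd d) (hdc : d ≤ c) {y : F} (hy : y ≠ 0) :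
    ∃ T U : Matrix (Fin c) (Fin c) F, IsIso T U ∧ (U - 1) ^ d = 0 ∧ (U - 1) ^ (d - 1) ≠ 0 ∧
      (d < c → T.det = y) := by
  obtain ⟨k, rfl⟩ := Nat.exists_eq_add_of_le hdc
  obtain ⟨T, U, hTU, h1, h3⟩ := exists_regular h2 hd
  obtain ⟨T', hT', hdet⟩ := exists_filler (k := k) (y := y / T.det) (div_ne_zero hy hTU.det_ne)
  refine ⟨blk T T', blk U 1, hTU.blk hT', ?_, ?_, fun h => ?_⟩
  · rw [blk_sub_one, blk_pow, blk_eq_zero_iff, sub_self, zero_pow hd.pos.ne']
    exact ⟨h1, rfl⟩
  · rw [blk_sub_one, blk_pow, Ne, blk_eq_zero_iff]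
    exact fun h => h3 h.1
  · rw [blk_det, hdet (by omega), mul_div_cancel₀ _ hTU.det_ne]

/-- A unipotent isometry in even dimension is not regular. -/
theorem pow_pred_eq_zero_of_even (h2 : (2 : F) ≠ 0) {c : ℕ} {T U : Matrix (Fin c) (Fin c) F} (h : IsIso T U)
    (hU : IsNilpotent (U - 1)) (hc : Even c) (hc0 : 0 < c) : (U - 1) ^ (c - 1) = 0 := by
  classical
  set X' := U - 1 with hX
  have hXc : X' ^ c = 0 := KnownA.pow_eq_zero_of_nilpotent hU
  set Y := X' ^ (c - 1) with hY
  by_contra hne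
  have hYX : Y * X' = 0 := by rw [hY, ← pow_succ, Nat.sub_add_cancel hc0, hXc]
  obtain ⟨v, hv⟩ : ∃ v, Y *ᵥ v ≠ 0 := by
    by_contra h0
    push Not at h0
    exact hne (Matrix.ext_iff_mulVec.2 fun x => by rw [h0, Matrix.zero_mulVec])
  have hYa : ∀ P : F[X], Y * aeval X' P = P.coeff 0 • Y := by
    intro P
    obtain ⟨w, hw⟩ : (X : F[X]) ∣ P - C (P.coeff 0) := by rw [X_dvd_iff, coeff_sub, coeff_C_zero, sub_self]
    rw [show P = C (P.coeff 0) + X * w by rw [← hw]; ring, map_add, aeval_C, map_mul, aeval_X, mul_add,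
      ← Matrix.mul_assoc, hYX, zero_mul, add_zero, Algebra.algebraMap_eq_smul_one, Matrix.mul_smul, mul_one]
    simp
  let ev : Polynomial.degreeLT F c →ₗ[F] (Fin c → F) :=
    { toFun := fun q => aeval X' (q : F[X]) *ᵥ v
      map_add' := fun x y => by simp [Matrix.add_mulVec]
      map_smul' := fun s x => by simp [Matrix.smul_mulVec] }
  have hev : Function.Injective ev := by
    refine (injective_iff_map_eq_zero ev).2 fun q hq => Subtype.ext ?_
    by_contra hq0
    obtain ⟨r, hr, hr0⟩ := exists_eq_pow_rootMultiplicity_mul_and_not_dvd (q : F[X]) hq0 0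
    rw [map_zero, sub_zero] at hr hr0
    set i := rootMultiplicity 0 (q : F[X])
    have hir : i < c := by
      have hdeg := Polynomial.mem_degreeLT.1 q.2
      rw [degree_eq_natDegree hq0, Nat.cast_lt, hr,
        natDegree_mul (pow_ne_zero _ X_ne_zero) (fun h0 => hr0 (by rw [h0]; exact dvd_zero _)), natDegree_X_pow] at hdeg
      omega
    have h1 : X' ^ (c - 1 - i) *ᵥ (aeval X' (q : F[X]) *ᵥ v) = 0 := by
      rw [show aeval X' (q : F[X]) *ᵥ v = 0 from hq, Matrix.mulVec_zero]
    rw [Matrix.mulVec_mulVec, hr, map_mul, map_pow, aeval_X, ← Matrix.mul_assoc, ← pow_add,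
      show c - 1 - i + i = c - 1 by omega, ← hY, hYa, Matrix.smul_mulVec] at h1
    exact hr0 (X_dvd_iff.2 ((smul_eq_zero.1 h1).resolve_right hv))
  have hs : Function.Surjective ev :=
    (LinearMap.injective_iff_surjective_of_finrank_eq_finrank
      (by rw [LinearEquiv.finrank_eq (Polynomial.degreeLTEquiv F c), Module.finrank_fin_fun])).1 hev
  have hline : ∀ w, ∃ l : F, Y *ᵥ w = l • (Y *ᵥ v) := by
    intro w
    obtain ⟨P, rfl⟩ := hs w
    exact ⟨(P : F[X]).coeff 0, by
      show Y *ᵥ (aeval X' (P : F[X]) *ᵥ v) = _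
      rw [Matrix.mulVec_mulVec, hYa, Matrix.smul_mulVec]⟩
  have hYU : ∀ k, Y * U ^ k = Y := fun k => by
    induction k with
    | zero => rw [pow_zero, mul_one]
    | succ k ih => rw [pow_succ, ← Matrix.mul_assoc, ih, show U = X' + 1 by rw [hX]; abel, mul_add, hYX,
        zero_add, mul_one]
  -- the form `T Y` is alternating
  have hskew : (T * Y)ᵀ = -(T * Y) := by
    have h1 := h.mul_sub_pow (c - 1)
    rw [← hX, ← hY, (Nat.Even.sub_odd hc0 hc odd_one).neg_one_pow, neg_one_smul] at h1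
    have h2' : T * Y = -((T * Y)ᵀ * U ^ (c - 1)) := by rw [transpose_mul, h.1, Matrix.mul_assoc]; exact h1
    have h3 := congrArg Matrix.transpose h2'
    rw [transpose_neg, transpose_mul _ (U ^ (c - 1)), transpose_transpose] at h3
    have h4 : (T * Y)ᵀ = -((U ^ (c - 1))ᵀ * (T * Y)) := h3
    calc (T * Y)ᵀ = -((U ^ (c - 1))ᵀ * (T * Y)) := h4
      _ = -((U ^ (c - 1))ᵀ * ((T * Y) * U ^ (c - 1))) := by rw [Matrix.mul_assoc T Y, hYU]
      _ = -((U ^ (c - 1))ᵀ * T * U ^ (c - 1) * Y) := by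
          rw [Matrix.mul_assoc T Y, hYU, Matrix.mul_assoc, Matrix.mul_assoc]
          congr 2
          rw [show U ^ (c - 1) * Y = Y by
            rw [hY, ((((Commute.refl U).sub_left (Commute.one_left _)).pow_left (c - 1)).pow_right (c - 1)).eq.symm,
              ← hY, hYU]]
      _ = -(T * Y) := by rw [(h.pow (c - 1)).2.2]
  set z := Y *ᵥ v with hz
  have hb : ∀ x w, ∀ l : F, Y *ᵥ w = l • z → x ⬝ᵥ (T * Y) *ᵥ w = l * (x ⬝ᵥ T *ᵥ z) := fun x w l hl => by
    rw [← Matrix.mulVec_mulVec, hl, Matrix.mulVec_smul, dotProduct_smul, smul_eq_mul]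
  have hanti : ∀ x w, x ⬝ᵥ (T * Y) *ᵥ w = -(w ⬝ᵥ (T * Y) *ᵥ x) := fun x w => by
    rw [dotProduct_comm x, Matrix.dotProduct_mulVec w, ← Matrix.mulVec_transpose, hskew, Matrix.neg_mulVec,
      neg_dotProduct, neg_neg]
  have hzv : v ⬝ᵥ T *ᵥ z = 0 := by
    have h1 := hanti v v
    rw [hb v v 1 (one_smul F z).symm, one_mul] at h1
    exact (mul_eq_zero.1 (show (2 : F) * (v ⬝ᵥ T *ᵥ z) = 0 by linear_combination h1)).resolve_left h2
  refine hv (Matrix.eq_zero_of_mulVec_eq_zero h.det_ne (funext fun i => ?_))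
  obtain ⟨l, hl⟩ := hline (Pi.single i 1)
  have h1 := hanti (Pi.single i 1) v
  rw [hb _ v 1 (one_smul F z).symm, hb v _ l hl, hzv, mul_zero, neg_zero, one_mul] at h1
  simpa using h1

end CfsgLib.KnownB.O9Spec
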